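import Cfsg.Agent.H428.OT.Lau
import Cfsg.Agent.H412.OT.Defs
import Cfsg.Agent.ChevalleyStructure.Ring

/-!
# S2539, part 5: the additive Laurent trick (helper103)

* `add_lau` : an additive one-parameter group with polynomial entries of small degree, conjugated into the normaliser of a
  group `T` of diagonal matrices, centralises `T`;
* `root_comm` : `g X_r g⁻¹ ≤ N(Y)`, `Y ≤ T`, implies `g X_r g⁻¹ ≤ C(Y)` (`D = G₂, F₄`).
-/

set_option autoImplicit false

namespace Cfsg.Agent.H103.OT

open Polynomial
open Cfsg.Agent.H428.OT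
open scoped Matrix MatrixGroups

universe u v

section Abs

variable {K : Type u} [Field K] {ι : Type v} [Fintype ι] [DecidableEq ι]

/-- **The additive Laurent trick.** -/
theorem add_lau [Fintype K] {T : Subgroup (GL ι K)} (hT : IsDiagSub T) {m : ℕ} (hm : 2 * m < Fintype.card K)
    (x : K → GL ι K) (hx : ∀ a b, x (a + b) = x a * x b)
    (hpol : ∀ i j, ∃ P : K[X], P.natDegree ≤ m ∧ ∀ t, (x t : Matrix ι ι K) i j = P.eval t)
    (g : GL ι K) (hN : ∀ t, g * x t * g⁻¹ ∈ Subgroup.normalizer (T : Set (GL ι K))) (t : K) :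
    ∀ s ∈ T, (g * x t * g⁻¹) * s = s * (g * x t * g⁻¹) := by
  classical
  apply comm_of_map_wsp hT
  intro χ
  have hx0 : x 0 = 1 := by
    have h1 := hx 0 0
    rw [add_zero] at h1
    exact (mul_eq_left.1 h1.symm)
  -- the stabiliser
  let H : AddSubgroup K :=
    { carrier := {c | (wsp T χ.1).map (Matrix.toLin' ((g * x c * g⁻¹ : GL ι K) : Matrix ι ι K)) = wsp T χ.1}
      zero_mem' := by
        change (wsp T χ.1).map (Matrix.toLin' ((g * x 0 * g⁻¹ : GL ι K) : Matrix ι ι K)) = wsp T χ.1
        rw [hx0, mul_one, mul_inv_cancel, Units.val_one, Matrix.toLin'_one]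
        exact Submodule.map_id _
      add_mem' := by
        intro a b ha hb
        change (wsp T χ.1).map (Matrix.toLin' ((g * x (a + b) * g⁻¹ : GL ι K) : Matrix ι ι K)) = wsp T χ.1
        have h1 : g * x (a + b) * g⁻¹ = (g * x a * g⁻¹) * (g * x b * g⁻¹) := by rw [hx]; group
        rw [h1, Units.val_mul, Matrix.toLin'_mul, Submodule.map_comp, hb, ha]
      neg_mem' := by
        intro a ha
        change (wsp T χ.1).map (Matrix.toLin' ((g * x (-a) * g⁻¹ : GL ι K) : Matrix ι ι K)) = wsp T χ.1
        conv_lhs => rw [← (show (wsp T χ.1).map (Matrix.toLin' ((g * x a * g⁻¹ : GL ι K) : Matrix ι ι K)) =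
          wsp T χ.1 from ha)]
        rw [← Submodule.map_comp, ← Matrix.toLin'_mul, ← Units.val_mul]
        have h1 : (g * x (-a) * g⁻¹) * (g * x a * g⁻¹) = 1 := by
          have h2 : (g * x (-a) * g⁻¹) * (g * x a * g⁻¹) = g * (x (-a) * x a) * g⁻¹ := by group
          rw [h2, ← hx, neg_add_cancel, hx0]; group
        rw [h1, Units.val_one, Matrix.toLin'_one]
        exact Submodule.map_id _ }
  obtain ⟨v, hv, hv0⟩ := (Submodule.ne_bot_iff _).1 (wsp_ne_bot hT χ)
  have hvn : v ∉ ⨆ ψ, ⨆ _ : ψ ≠ χ, wsp T ψ.1 := fun h =>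
    hv0 ((Submodule.disjoint_def.1 (iSupIndep_wsp hT χ)) v hv h)
  obtain ⟨φ, hφv, hφ⟩ := Submodule.exists_le_ker_of_notMem hvn
  -- the polynomial
  obtain ⟨P, hP, hPe⟩ : ∃ P : K[X], P.natDegree ≤ m ∧ ∀ c, φ (((g * x c * g⁻¹ : GL ι K) : Matrix ι ι K) *ᵥ v) = P.eval c := by
    choose Q hQ hQe using hpol
    set y : ι → K := ((g⁻¹ : GL ι K) : Matrix ι ι K) *ᵥ v with hy
    refine ⟨∑ i, ∑ j, C (φ (((g : GL ι K) : Matrix ι ι K) *ᵥ Pi.single i 1) * y j) * Q i j, ?_, ?_⟩
    · refine natDegree_sum_le_of_forall_le _ _ fun i _ => natDegree_sum_le_of_forall_le _ _ fun j _ => ?_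
      exact (natDegree_C_mul_le _ _).trans (hQ i j)
    · intro c
      rw [Units.val_mul, Units.val_mul, ← Matrix.mulVec_mulVec, ← Matrix.mulVec_mulVec, ← hy]
      have h1 : ((x c : GL ι K) : Matrix ι ι K) *ᵥ y = ∑ i, (∑ j, (x c : Matrix ι ι K) i j * y j) • (Pi.single i (1 : K) : ι → K) := by
        funext i
        rw [Finset.sum_apply, Finset.sum_eq_single i]
        · rw [Pi.smul_apply, Pi.single_eq_same, smul_eq_mul, mul_one]
          rfl
        · intro j _ hj
          rw [Pi.smul_apply, Pi.single_eq_of_ne (Ne.symm hj), smul_zero]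
        · intro h
          exact absurd (Finset.mem_univ i) h
      rw [h1, Matrix.mulVec_sum, map_sum, eval_finsetSum]
      refine Finset.sum_congr rfl fun i _ => ?_
      rw [Matrix.mulVec_smul, map_smul, smul_eq_mul, eval_finsetSum, Finset.sum_mul]
      refine Finset.sum_congr rfl fun j _ => ?_
      rw [eval_mul, eval_C, hQe]
      ring
  have hP0 : P ≠ 0 := by
    rintro rfl
    apply hφv
    have := hPe 0
    rw [hx0, mul_one, mul_inv_cancel, Units.val_one, Matrix.one_mulVec, eval_zero] at this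
    exact this
  have hmem : ∀ c, P.eval c ≠ 0 → c ∈ H := by
    intro c hc
    obtain ⟨ψ, hψ⟩ := exists_map_wsp hT (hN c) χ
    by_cases hψχ : ψ = χ
    · subst hψχ
      exact hψ
    · exfalso
      apply hc
      have h1 : ((g * x c * g⁻¹ : GL ι K) : Matrix ι ι K) *ᵥ v ∈ wsp T ψ.1 := by
        rw [← hψ]
        exact Submodule.mem_map_of_mem hv
      have h2 : ((g * x c * g⁻¹ : GL ι K) : Matrix ι ι K) *ᵥ v ∈ ⨆ ψ, ⨆ _ : ψ ≠ χ, wsp T ψ.1 :=
        (le_iSup₂_of_le (f := fun ψ (_ : ψ ≠ χ) => wsp T ψ.1) ψ hψχ le_rfl) h1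
      rw [← hPe]
      exact LinearMap.mem_ker.1 (hφ h2)
  have hH : H = ⊤ := by
    by_contra hne
    have h1 : (Finset.univ.filter fun c : K => P.eval c = 0).card ≤ m := by
      refine le_trans (Finset.card_le_card (t := P.roots.toFinset) ?_)
        ((Multiset.toFinset_card_le _).trans ((card_roots' P).trans hP))
      intro c hc
      rw [Multiset.mem_toFinset, mem_roots hP0, IsRoot.def]
      exact (Finset.mem_filter.1 hc).2
    have h2 : (Finset.univ.filter fun c : K => ¬ P.eval c = 0).card ≤ Nat.card H := by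
      have hc2 : Nat.card H = (Finset.univ.filter fun c : K => c ∈ H).card := by
        rw [Nat.card_eq_fintype_card, Fintype.card_subtype]
      rw [hc2]
      exact Finset.card_le_card fun c hc => Finset.mem_filter.2 ⟨Finset.mem_univ _, hmem c (Finset.mem_filter.1 hc).2⟩
    have h3 : (Finset.univ.filter fun c : K => P.eval c = 0).card +
        (Finset.univ.filter fun c : K => ¬ P.eval c = 0).card = Fintype.card K := by
      rw [Finset.card_filter_add_card_filter_not, Finset.card_univ]
    have h4 : Nat.card H * H.index = Fintype.card K := by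
      rw [← Nat.card_eq_fintype_card]
      exact H.card_mul_index
    have h5 : 2 ≤ H.index := by
      have h6 : H.index ≠ 1 := fun h => hne (AddSubgroup.index_eq_one.1 h)
      have h7 : H.index ≠ 0 := by
        intro h
        rw [h, mul_zero] at h4
        have := Fintype.card_pos (α := K)
        omega
      omega
    have h8 : Nat.card H * 2 ≤ Fintype.card K := by
      rw [← h4]
      exact Nat.mul_le_mul_left _ h5
    omega
  have : t ∈ H := hH ▸ AddSubgroup.mem_top t
  exact this

end Abs

/-! ### root groups -/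

section Root

open Cfsg.Lie Cfsg.Lie.ChevalleyDatum
open Cfsg.Agent.ChevalleyStructure Cfsg.Agent.ChevalleyStructure.Elts Cfsg.Agent.H412.OT

variable {K : Type u} [Field K] {D : ChevalleyDatum}

/-- all root strings have at most three members beyond the first -/
def chn (D : ChevalleyDatum) : Bool := D.chain.toList.all fun row => row.toList.all fun e => Nat.ble e.2.toList.length 3

theorem chn_F4 : chn chevF4 = true := by decide +kernel
theorem chn_G2 : chn chevG2 = true := by decide +kernel

theorem chn_spec (h : chn D = true) {r s u : ℕ} {km : ℕ × ℤ} (hk : km ∈ D.chainCoeff r s u) : km.1 ≤ 3 := by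
  rw [chn, List.all_eq_true] at h
  rw [chainCoeff, List.mem_flatMap] at hk
  obtain ⟨e, he, hk⟩ := hk
  rw [List.mem_filter] at he
  rw [List.mem_map] at hk
  obtain ⟨q, hq, rfl⟩ := hk
  rw [List.mem_filter] at hq
  have h1 : D.chain.getD r #[] ∈ D.chain.toList ∨ D.chain.getD r #[] = #[] := by
    rw [Array.getD]
    split
    · left
      rw [Array.mem_toList_iff]
      exact Array.getElem_mem _
    · exact Or.inr rfl
  rcases h1 with h1 | h1
  · have h2 := h _ h1
    rw [List.all_eq_true] at h2
    have h3 := Nat.le_of_ble_eq_true (h2 e he.1)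
    have h4 := (List.mem_zipIdx hq.1).2.1
    show q.2 + 1 ≤ 3
    omega
  · rw [h1] at he
    simp at he

theorem natDegree_xR (h : chn D = true) (r : ℕ) (i j : D.Idx) :
    (ChevalleyStructure.Ring.xR D ℤ[X] r X i j).natDegree ≤ 3 := by
  have hc : ∀ c : ℤ, (C c * X : ℤ[X]).natDegree ≤ 3 := fun c =>
    (natDegree_C_mul_le _ _).trans (by rw [natDegree_X]; norm_num)
  have hl : ∀ l : List (ℕ × ℤ), (∀ km ∈ l, km.1 ≤ 3) →
      (List.map (fun km : ℕ × ℤ => ((km.2 : ℤ) : ℤ[X]) * X ^ km.1) l).sum.natDegree ≤ 3 := by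
    intro l
    induction l with
    | nil => intro _; rw [List.map_nil, List.sum_nil, natDegree_zero]; norm_num
    | cons a l ih =>
      intro hl
      rw [List.map_cons, List.sum_cons]
      refine natDegree_add_le_of_degree_le ?_ (ih fun km hkm => hl km (List.mem_cons_of_mem _ hkm))
      rw [← eq_intCast C]
      refine (natDegree_C_mul_le _ _).trans ?_
      rw [natDegree_X_pow]
      exact hl a List.mem_cons_self
  unfold ChevalleyStructure.Ring.xR
  split_ifs with hr
  · rcases i with i' | u <;> rcases j with i | s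
    · show (if i' = i then (1 : ℤ[X]) else 0).natDegree ≤ 3
      split_ifs <;> simp
    · simp only [ChevalleyStructure.Ring.xMatR, Matrix.of_apply]
      split_ifs
      · simp
      · rw [← eq_intCast C]; exact hc _
      · simp
    · simp only [ChevalleyStructure.Ring.xMatR, Matrix.of_apply]
      split_ifs
      · rw [← eq_intCast C, ← C_neg]; exact hc _
      · simp
    · simp only [ChevalleyStructure.Ring.xMatR, Matrix.of_apply]
      split_ifs
      · rw [natDegree_one]; norm_num
      · rw [natDegree_zero]; norm_num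
      · rw [natDegree_one]; norm_num
      · rw [natDegree_neg, natDegree_X_pow]; norm_num
      · rw [natDegree_zero]; norm_num
      · refine (natDegree_add_le_of_degree_le (n := 3) (by rw [natDegree_one]; norm_num) (hl _ ?_))
        exact fun km hkm => chn_spec h hkm
      · refine (natDegree_add_le_of_degree_le (n := 3) (by rw [natDegree_zero]; norm_num) (hl _ ?_))
        exact fun km hkm => chn_spec h hkm
  · by_cases hij : i = j
    · rw [hij, Matrix.one_apply_eq]; simp
    · rw [Matrix.one_apply_ne hij]; simp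

/-- **A root group conjugated into the normaliser of `Y ≤ T` centralises `Y`** (`G₂`, `F₄`). -/
theorem root_comm [Fintype K] (hD : D = chevF4 ∨ D = chevG2) (hq : 13 ≤ Fintype.card K) {Y : Subgroup (GL D.Idx K)}
    (hY : Y ≤ D.diagonalSubgroup K) {r : ℕ} (hr : r < D.nroots) {g : GL D.Idx K}
    (hN : ∀ x ∈ D.rootSubgroup K r, g * x * g⁻¹ ∈ Subgroup.normalizer (Y : Set (GL D.Idx K))) {x : GL D.Idx K}
    (hx : x ∈ D.rootSubgroup K r) {y : GL D.Idx K} (hy : y ∈ Y) : (g * x * g⁻¹) * y = y * (g * x * g⁻¹) := by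
  have hL : InList D := by rcases hD with rfl | rfl <;> simp [InList]
  have hc : chn D = true := by
    rcases hD with rfl | rfl
    · exact chn_F4
    · exact chn_G2
  obtain ⟨t, rfl⟩ := (mem_rootSubgroup_iff hL r x).1 hx
  have hY' : IsDiagSub Y := fun _ ht => ⟨_, coe_tor hL (hY ht)⟩
  refine add_lau hY' (m := 3) (by omega) (fun t => xG hL r t) (fun a b => ?_) (fun i j => ?_) g (fun t => ?_) t y hy
  · exact (xG_add hL r a b).symm
  · refine ⟨(ChevalleyStructure.Ring.xR D ℤ[X] r X i j).map (Int.castRingHom K),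
      natDegree_map_le.trans (natDegree_xR hc r i j), fun t => ?_⟩
    rw [coe_xG, ChevalleyStructure.Ring.x_eq_xR, ChevalleyStructure.Ring.xR_apply_eq_eval₂, eval_map]
  · exact hN _ ((mem_rootSubgroup_iff hL r _).2 ⟨t, rfl⟩)

end Root

end Cfsg.Agent.H103.OT
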