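import Cfsg.Agent.H103.OT.Gold

/-!
# S2539, part 5: the abstract core, second form (helper103)

Two levels:
* `P5a G` : `G = F` a least bad overgroup of the torus `T`, `D = D_F`, `M = D N_F(T)`, `Y = C_T(D)`;
  `P5a.mem_of_tor` : `T ^ f ≤ M → f ∈ M`; `P5a.mem_of_T` : `T ∩ T ^ f ≤ Z` for `f ∉ M`;
* `P5b G R` : in addition elements `h r ∈ G` (generators of one-parameter tori);
  `P5b.mem_of_DT`, `P5b.ctl2`, `P5b.nc`, `P5b.false_gold`, `P5b.false_zstar`.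
-/

set_option autoImplicit false

namespace Cfsg.Agent.H103.OT

open Subgroup Cfsg
open scoped commutatorElement

universe u v

/-- The configuration of part 5, first level. -/
structure P5a (G : Type u) [Group G] where
  /-- the torus -/
  T : Subgroup G
  /-- the subgroup `D_F` -/
  D : Subgroup G
  /-- the unique maximal overgroup of `T` -/
  M : Subgroup G
  /-- `C_T(D)` -/
  Y : Subgroup G
  tab : ∀ a ∈ T, ∀ b ∈ T, a * b = b * a
  tm : T ≤ M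
  dm : D ≤ M
  mtop : M ≠ ⊤
  uniq : ∀ L : Subgroup G, T ≤ L → L ≠ ⊤ → L ≤ M
  dn : ∀ m ∈ M, ∀ d ∈ D, m * d * m⁻¹ ∈ D
  yt : Y ≤ T
  yn : ∀ m ∈ M, ∀ y ∈ Y, m * y * m⁻¹ ∈ Y
  yd : ∀ y ∈ Y, ∀ d ∈ D, y * d = d * y
  normD : ∀ g : G, (∀ d ∈ D, g * d * g⁻¹ ∈ D) → g ∈ M
  perf : ∀ g : G, (∀ d ∈ D, g * d * g⁻¹ ∈ M) → ∀ d ∈ D, g * d * g⁻¹ ∈ D
  cT : ∀ g : G, (∀ t ∈ T, g * t = t * g) → g ∈ T
  lt : ∀ g : G, (∀ t ∈ T, g * t * g⁻¹ ∈ M) → ∀ t ∈ T, g * t * g⁻¹ ∈ D ⊔ T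
  exy : ∃ y ∈ Y, y ∉ center G

/-- The configuration of part 5, second level. -/
structure P5b (G : Type u) [Group G] (R : Type v) extends P5a G where
  /-- generators of the one-parameter tori -/
  h : R → G
  exr : ∃ r, h r ∈ Y ∧ h r ^ 2 ∉ center G
  ns : ∀ g ∉ M, ∀ r : R, (∀ t ∈ T, ∀ f : G, f * t * f⁻¹ ∈ T → t ∉ center G → f ∈ M) →
    g * h r * g⁻¹ ∈ M → h r ^ 2 ∈ center G
  norm : ∀ x ∈ M, x ^ 2 ∈ center G → ∃ d ∈ D, ∀ t ∈ T, (d * x * d⁻¹) * t * (d * x * d⁻¹)⁻¹ ∈ T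
  geo : ∀ x : G, (∀ t ∈ T, x * t * x⁻¹ ∈ T) → x ^ 2 ∈ center G →
    (∀ t ∈ T, x * t * x⁻¹ * t ∈ center G) ∨ ∃ r, x * h r = h r * x ∧ h r ^ 2 ∉ center G
  om : ∃ t₁ ∈ T, ∃ t₂ ∈ T, t₁ ^ 2 ∈ center G ∧ t₂ ^ 2 ∈ center G ∧ t₁ ∉ center G ∧ t₂ ∉ center G ∧
    t₁ * t₂ ∉ center G

namespace P5a

variable {G : Type u} [Group G] (C : P5a G)

theorem center_le : center G ≤ C.T := fun z hz => C.cT z fun t _ => ((mem_center_iff.1 hz) t).symm

theorem conj_mem {H : Subgroup G} {g x : G} (hg : g ∈ H) (hx : x ∈ H) : g * x * g⁻¹ ∈ H :=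
  mul_mem (mul_mem hg hx) (inv_mem hg)

/-- `D T` centralises `Y`. -/
theorem dt_comm {x y : G} (hx : x ∈ C.D ⊔ C.T) (hy : y ∈ C.Y) : x * y = y * x := by
  have h1 : C.D ⊔ C.T ≤ centralizer (C.Y : Set G) := by
    refine sup_le ?_ ?_
    · intro d hd
      rw [mem_centralizer_iff]
      intro y hy
      exact C.yd y hy d hd
    · intro t ht
      rw [mem_centralizer_iff]
      intro y hy
      exact C.tab y (C.yt hy) t ht
  exact ((mem_centralizer_iff.1 (h1 hx)) y hy).symm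

/-- Centralisers of noncentral elements of `T`. -/
theorem cent_le {t : G} (ht : t ∈ C.T) (hz : t ∉ center G) {g : G} (hg : g * t = t * g) : g ∈ C.M := by
  have h1 : C.T ≤ centralizer ({t} : Set G) := by
    intro s hs
    rw [mem_centralizer_singleton_iff]
    exact C.tab s hs t ht
  have h2 : centralizer ({t} : Set G) ≠ ⊤ := by
    intro h
    apply hz
    rw [mem_center_iff]
    intro s
    have h3 : s ∈ centralizer ({t} : Set G) := h ▸ mem_top s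
    exact mem_centralizer_singleton_iff.1 h3
  exact C.uniq _ h1 h2 (mem_centralizer_singleton_iff.2 hg)

/-- Centralisers of noncentral elements of conjugates of `T`. -/
theorem cent_conj {t : G} (ht : t ∈ C.T) (hz : t ∉ center G) {f g : G} (hg : g * (f * t * f⁻¹) = (f * t * f⁻¹) * g) :
    f⁻¹ * g * f ∈ C.M := by
  apply C.cent_le ht hz
  calc f⁻¹ * g * f * t = f⁻¹ * (g * (f * t * f⁻¹)) * f := by group
    _ = f⁻¹ * ((f * t * f⁻¹) * g) * f := by rw [hg]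
    _ = t * (f⁻¹ * g * f) := by group

theorem not_mem_center_conj {t f : G} (hz : t ∉ center G) : f * t * f⁻¹ ∉ center G := by
  intro h
  apply hz
  have h1 : f⁻¹ * (f * t * f⁻¹) * f⁻¹⁻¹ ∈ center G := Normal.conj_mem inferInstance _ h f⁻¹
  have h2 : f⁻¹ * (f * t * f⁻¹) * f⁻¹⁻¹ = t := by group
  rwa [h2] at h1

/-- `T ^ f ≤ M → f ∈ M`. -/
theorem mem_of_tor {f : G} (hf : ∀ t ∈ C.T, f * t * f⁻¹ ∈ C.M) : f ∈ C.M := by
  have h1 := C.lt f hf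
  -- `f⁻¹ Y f ≤ T`
  have h2 : ∀ y ∈ C.Y, f⁻¹ * y * f ∈ C.T := by
    intro y hy
    apply C.cT
    intro t ht
    have h3 := C.dt_comm (h1 t ht) hy
    calc f⁻¹ * y * f * t = f⁻¹ * (y * (f * t * f⁻¹)) * f := by group
      _ = f⁻¹ * ((f * t * f⁻¹) * y) * f := by rw [h3]
      _ = t * (f⁻¹ * y * f) := by group
  obtain ⟨y, hr, hyz⟩ := C.exy
  -- `D ≤ C(y)`
  have h4 : ∀ d ∈ C.D, f⁻¹ * d * f⁻¹⁻¹ ∈ C.M := by
    intro d hd
    rw [inv_inv]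
    have h5 : f⁻¹ * y * f ∉ center G := by
      have := not_mem_center_conj (f := f⁻¹) hyz
      rwa [inv_inv] at this
    apply C.cent_le (h2 _ hr) h5
    have h6 := C.yd _ hr d hd
    calc f⁻¹ * d * f * (f⁻¹ * y * f) = f⁻¹ * (d * y) * f := by group
      _ = f⁻¹ * (y * d) * f := by rw [h6]
      _ = f⁻¹ * y * f * (f⁻¹ * d * f) := by group
  have h5 := C.normD f⁻¹ (C.perf f⁻¹ h4)
  exact inv_mem_iff.1 h5

/-- `T ∩ T ^ f ≤ Z` for `f ∉ M`. -/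
theorem mem_of_T {t f : G} (ht : t ∈ C.T) (hz : t ∉ center G) (hf : f * t * f⁻¹ ∈ C.T) : f ∈ C.M := by
  apply C.mem_of_tor
  intro s hs
  apply C.cent_le hf (not_mem_center_conj hz)
  have := C.tab s hs t ht
  calc f * s * f⁻¹ * (f * t * f⁻¹) = f * (s * t) * f⁻¹ := by group
    _ = f * (t * s) * f⁻¹ := by rw [this]
    _ = f * t * f⁻¹ * (f * s * f⁻¹) := by group

end P5a

namespace P5b

open P5a

variable {G : Type u} [Group G] {R : Type v} (C : P5b G R)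

/-- the consequence of `ns` -/
theorem ns' {g : G} (hg : g ∉ C.M) {r : R} (hr : g * C.h r * g⁻¹ ∈ C.M) : C.h r ^ 2 ∈ center G :=
  C.ns g hg r (fun _ ht _ hf hz => C.mem_of_T ht hz hf) hr

/-- `T ^ f ∩ D T ≤ Z` for `f ∉ M`. -/
theorem mem_of_DT {t f : G} (ht : t ∈ C.T) (hz : t ∉ center G) (hf : f * t * f⁻¹ ∈ C.D ⊔ C.T) : f ∈ C.M := by
  by_contra hfM
  obtain ⟨r, hr, hrz⟩ := C.exr
  apply hrz
  apply C.ns' (g := f⁻¹) (fun h => hfM (inv_mem_iff.1 h))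
  rw [inv_inv]
  exact C.cent_conj ht hz (C.dt_comm hf hr).symm

/-- an element of order 2 modulo `Z` in `T ^ f ∩ M` inverts a torus modulo `Z` -/
theorem inv_of_two {t f : G} (ht : t ∈ C.T) (hz : t ∉ center G) (ht2 : t ^ 2 ∈ center G) (hf : f ∉ C.M)
    (hfM : f * t * f⁻¹ ∈ C.M) : ∃ d ∈ C.D, ∀ s ∈ C.T,
      (d * (f * t * f⁻¹) * d⁻¹) * s * (d * (f * t * f⁻¹) * d⁻¹)⁻¹ ∈ C.T ∧
      (d * (f * t * f⁻¹) * d⁻¹) * s * (d * (f * t * f⁻¹) * d⁻¹)⁻¹ * s ∈ center G := by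
  have hx2 : (f * t * f⁻¹) ^ 2 ∈ center G := by
    have h1 : (f * t * f⁻¹) ^ 2 = f * t ^ 2 * f⁻¹ := by rw [pow_two, pow_two]; group
    rw [h1]
    exact Normal.conj_mem inferInstance _ ht2 f
  obtain ⟨d, hd, hn⟩ := C.norm _ hfM hx2
  refine ⟨d, hd, ?_⟩
  have hdx2 : (d * (f * t * f⁻¹) * d⁻¹) ^ 2 ∈ center G := by
    have h1 : (d * (f * t * f⁻¹) * d⁻¹) ^ 2 = d * (f * t * f⁻¹) ^ 2 * d⁻¹ := by rw [pow_two, pow_two]; group
    rw [h1]
    exact Normal.conj_mem inferInstance _ hx2 d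
  rcases C.geo _ hn hdx2 with h | ⟨r, hr, hrz⟩
  · exact fun s hs => ⟨hn s hs, h s hs⟩
  · exfalso
    apply hrz
    have hdf : (d * f)⁻¹ ∉ C.M := by
      intro h
      exact hf ((mul_mem_cancel_left (C.dm hd)).1 (inv_mem_iff.1 h))
    apply C.ns' hdf
    rw [inv_inv]
    apply C.cent_conj (f := d * f) ht hz
    have h1 : d * f * t * (d * f)⁻¹ = d * (f * t * f⁻¹) * d⁻¹ := by group
    rw [h1]
    exact hr.symm

/-- **`T ^ f ∩ M` has no element of order 2 modulo `Z` for `f ∉ M`.** -/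
theorem ctl2 {t f : G} (ht : t ∈ C.T) (hz : t ∉ center G) (ht2 : t ^ 2 ∈ center G)
    (hfM : f * t * f⁻¹ ∈ C.M) : f ∈ C.M := by
  by_contra hf
  obtain ⟨d, hd, hinv⟩ := C.inv_of_two ht hz ht2 hf hfM
  -- replace `f` by `d f`
  set e : G := d * f with he
  have heM : e ∉ C.M := by
    intro h
    exact hf ((mul_mem_cancel_left (C.dm hd)).1 h)
  have hex : d * (f * t * f⁻¹) * d⁻¹ = e * t * e⁻¹ := by rw [he]; group
  rw [hex] at hinv
  -- elements of `T` of order two modulo `Z` lie in `M ^ e`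
  have key : ∀ s ∈ C.T, s ^ 2 ∈ center G → s ∉ center G → e⁻¹ * s * e⁻¹⁻¹ ∈ C.M := by
    intro s hs hs2 hsz
    rw [inv_inv]
    obtain ⟨h1, h2⟩ := hinv s hs
    -- `x s x⁻¹ = s ζ`
    have h3 : (e * t * e⁻¹) * s * (e * t * e⁻¹)⁻¹ * s⁻¹ ∈ center G := by
      have h4 : (e * t * e⁻¹) * s * (e * t * e⁻¹)⁻¹ * s⁻¹ =
          ((e * t * e⁻¹) * s * (e * t * e⁻¹)⁻¹ * s) * (s ^ 2)⁻¹ := by
        rw [pow_two]; group
      rw [h4]
      exact mul_mem h2 (inv_mem hs2)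
    apply C.mem_of_T ht hz
    -- `(e⁻¹ s e) t (e⁻¹ s e)⁻¹ = t ζ'`
    have h5 : e⁻¹ * s * e * t * (e⁻¹ * s * e)⁻¹ =
        t * (e⁻¹ * ((e * t * e⁻¹)⁻¹ * (s * (e * t * e⁻¹) * s⁻¹)) * e⁻¹⁻¹) := by group
    rw [h5]
    refine mul_mem ht (C.center_le ?_)
    refine Normal.conj_mem inferInstance _ ?_ _
    -- `x⁻¹ (s x s⁻¹)` is central
    have h6 : (e * t * e⁻¹)⁻¹ * (s * (e * t * e⁻¹) * s⁻¹) =
        (e * t * e⁻¹)⁻¹ * ((e * t * e⁻¹) * s * (e * t * e⁻¹)⁻¹ * s⁻¹)⁻¹ * (e * t * e⁻¹)⁻¹⁻¹ := by group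
    rw [h6]
    exact Normal.conj_mem inferInstance _ (inv_mem h3) _
  -- such elements invert `Y` modulo `Z`
  have inv : ∀ s ∈ C.T, s ^ 2 ∈ center G → s ∉ center G → ∀ y ∈ C.Y,
      (e⁻¹ * s * e) * y * (e⁻¹ * s * e)⁻¹ * y ∈ center G := by
    intro s hs hs2 hsz y hy
    have h1 := key s hs hs2 hsz
    obtain ⟨b, hb, h2⟩ := C.inv_of_two hs hsz hs2 (fun h => heM (inv_mem_iff.1 h)) h1
    rw [inv_inv] at h1 h2
    obtain ⟨-, h3⟩ := h2 y (C.yt hy)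
    have h4 := C.yd y hy b hb
    have h5 := C.yd _ (C.yn _ h1 y hy) b hb
    have h6 : (b * (e⁻¹ * s * e) * b⁻¹) * y * (b * (e⁻¹ * s * e) * b⁻¹)⁻¹ * y =
        (e⁻¹ * s * e) * y * (e⁻¹ * s * e)⁻¹ * y := by
      have h7 : b⁻¹ * y * b = y := by
        rw [mul_assoc, h4]; group
      have h8 : b * ((e⁻¹ * s * e) * y * (e⁻¹ * s * e)⁻¹) * b⁻¹ = (e⁻¹ * s * e) * y * (e⁻¹ * s * e)⁻¹ := by
        rw [← h5]; group
      calc (b * (e⁻¹ * s * e) * b⁻¹) * y * (b * (e⁻¹ * s * e) * b⁻¹)⁻¹ * y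
          = b * ((e⁻¹ * s * e) * (b⁻¹ * y * b) * (e⁻¹ * s * e)⁻¹) * b⁻¹ * y := by group
        _ = b * ((e⁻¹ * s * e) * y * (e⁻¹ * s * e)⁻¹) * b⁻¹ * y := by rw [h7]
        _ = _ := by rw [h8]
    rw [h6] at h3
    exact h3
  obtain ⟨t₁, ht₁, t₂, ht₂, h1, h2, h3, h4, h5⟩ := C.om
  obtain ⟨r, hr, hrz⟩ := C.exr
  have h12 : (t₁ * t₂) ^ 2 ∈ center G := by
    have : (t₁ * t₂) ^ 2 = t₁ ^ 2 * t₂ ^ 2 := by
      have h6 := C.tab t₁ ht₁ t₂ ht₂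
      calc (t₁ * t₂) ^ 2 = t₁ * (t₂ * t₁) * t₂ := by rw [pow_two]; group
        _ = t₁ * (t₁ * t₂) * t₂ := by rw [h6]
        _ = t₁ ^ 2 * t₂ ^ 2 := by rw [pow_two, pow_two]; group
    rw [this]
    exact mul_mem h1 h2
  have i1 := inv t₁ ht₁ h1 h3 _ hr
  have i2 := inv t₂ ht₂ h2 h4 _ hr
  have i12 := inv (t₁ * t₂) (mul_mem ht₁ ht₂) h12 h5 _ hr
  apply hrz
  set y := C.h r with hy
  -- `u₁ u₂ y (u₁ u₂)⁻¹ y⁻¹ ∈ Z`
  have a1 : (e⁻¹ * (t₁ * t₂) * e) * y * (e⁻¹ * (t₁ * t₂) * e)⁻¹ * y⁻¹ ∈ center G := by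
    -- u₂ y u₂⁻¹ = z₂ y⁻¹ with z₂ central, u₁ y u₁⁻¹ = z₁ y⁻¹
    set u₁ := e⁻¹ * t₁ * e with hu₁
    set u₂ := e⁻¹ * t₂ * e with hu₂
    have h6 : e⁻¹ * (t₁ * t₂) * e = u₁ * u₂ := by rw [hu₁, hu₂]; group
    rw [h6]
    set z₁ := u₁ * y * u₁⁻¹ * y with hz₁
    set z₂ := u₂ * y * u₂⁻¹ * y with hz₂
    have h7 : u₁ * z₂ = z₂ * u₁ := (mem_center_iff.1 i2) u₁
    have h8 : u₁ * u₂ * y * (u₁ * u₂)⁻¹ * y⁻¹ = u₁ * z₂ * u₁⁻¹ * (u₁ * y * u₁⁻¹)⁻¹ * y⁻¹ := by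
      rw [hz₂]; group
    have h9 : (u₁ * y * u₁⁻¹)⁻¹ * y⁻¹ = (y * (u₁ * y * u₁⁻¹ * y) * y⁻¹)⁻¹ := by group
    have h10 : y * z₁ * y⁻¹ ∈ center G := Normal.conj_mem inferInstance _ i1 _
    rw [h8, h7]
    have h11 : z₂ * u₁ * u₁⁻¹ * (u₁ * y * u₁⁻¹)⁻¹ * y⁻¹ = z₂ * ((u₁ * y * u₁⁻¹)⁻¹ * y⁻¹) := by group
    rw [h11, h9]
    exact mul_mem i2 (inv_mem h10)
  have a2 : y ^ 2 = y⁻¹ * (((e⁻¹ * (t₁ * t₂) * e) * y * (e⁻¹ * (t₁ * t₂) * e)⁻¹ * y⁻¹)⁻¹ *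
      ((e⁻¹ * (t₁ * t₂) * e) * y * (e⁻¹ * (t₁ * t₂) * e)⁻¹ * y)) * y⁻¹⁻¹ := by
    rw [pow_two]; group
  rw [a2]
  exact Normal.conj_mem inferInstance _ (mul_mem (inv_mem a1) i12) _

/-- Normal subgroups `N` with `N T ≠ G` are central. -/
theorem nc (hqs : ∀ N : Subgroup G, N ≤ C.D → (∀ d ∈ C.D, ∀ n ∈ N, d * n * d⁻¹ ∈ N) →
      C.D ≤ N ∨ ∀ n ∈ N, ∀ d ∈ C.D, n * d = d * n)
    (hperf : ⁅C.D, C.D⁆ = C.D)
    (hcDn : ∀ m ∈ C.M, (∀ d ∈ C.D, m * d = d * m) → ∀ t ∈ C.T, m * t * m⁻¹ ∈ C.T)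
    (hfaith : ∀ n : G, (∀ t ∈ C.T, n * t * n⁻¹ ∈ C.T) → (∀ t ∈ C.T, n * t * n⁻¹ * t⁻¹ ∈ center G) → n ∈ C.T)
    (N : Subgroup G) (hN : N.Normal) (hNT : N ⊔ C.T ≠ ⊤) : N ≤ center G := by
  have hNM : N ≤ C.M := le_sup_left.trans (C.uniq _ le_sup_right hNT)
  -- no conjugation-invariant subgroup contains `D` inside `M`
  have key : ∀ E : Subgroup G, E.Normal → E ≤ C.M → ¬ C.D ≤ E := by
    intro E hE hEM hDE
    apply C.mtop
    rw [eq_top_iff]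
    intro g _
    exact C.normD g (C.perf g fun d hd => hEM (hE.conj_mem _ (hDE hd) g))
  -- `N` centralises `D`
  have hND : ∀ n ∈ N, ∀ d ∈ C.D, n * d = d * n := by
    rcases hqs (N ⊓ C.D) inf_le_right (by
      intro d hd n hn
      exact ⟨hN.conj_mem _ hn.1 d, conj_mem hd hn.2⟩) with h | h
    · exact absurd (h.trans inf_le_left) (key N hN hNM)
    · have h1 : ⁅⁅N, C.D⁆, C.D⁆ = ⊥ := by
        have h2 : ⁅N, C.D⁆ ≤ N ⊓ C.D := by
          rw [commutator_le]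
          intro n hn d hd
          rw [commutatorElement_def]
          refine ⟨?_, ?_⟩
          · have h3 : n * d * n⁻¹ * d⁻¹ = n * (d * n⁻¹ * d⁻¹) := by group
            rw [h3]
            exact N.mul_mem hn (hN.conj_mem _ (N.inv_mem hn) d)
          · exact C.D.mul_mem (C.dn n (hNM hn) d hd) (C.D.inv_mem hd)
        rw [eq_bot_iff]
        refine (commutator_mono h2 le_rfl).trans ?_
        rw [commutator_le]
        intro n hn d hd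
        rw [mem_bot, commutatorElement_eq_one_iff_mul_comm]
        exact h n hn d hd
      have h2 : ⁅⁅C.D, N⁆, C.D⁆ = ⊥ := by rw [commutator_comm C.D N]; exact h1
      have h3 : ⁅⁅C.D, C.D⁆, N⁆ = ⊥ := commutator_commutator_eq_bot_of_rotate h2 h1
      rw [hperf] at h3
      intro n hn d hd
      have h4 : ⁅d, n⁆ ∈ (⊥ : Subgroup G) := by
        rw [← h3]
        exact commutator_mem_commutator hd hn
      rw [mem_bot, commutatorElement_eq_one_iff_mul_comm] at h4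
      exact h4.symm
  -- the normal closure `E` of `D`
  have hNE : ∀ n ∈ N, ∀ e ∈ normalClosure (C.D : Set G), n * e = e * n := by
    intro n hn e he
    have h1 : normalClosure (C.D : Set G) ≤ centralizer (N : Set G) := by
      apply normalClosure_le_normal
      intro d hd
      rw [SetLike.mem_coe, mem_centralizer_iff]
      intro n hn
      exact hND n hn d hd
    exact (mem_centralizer_iff.1 (h1 he)) n hn
  have hET : normalClosure (C.D : Set G) ⊔ C.T = ⊤ := by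
    by_contra h
    exact key _ normalClosure_normal (le_sup_left.trans (C.uniq _ le_sup_right h)) le_normalClosure
  have hNTz : N ⊓ C.T ≤ center G := by
    intro n hn
    have h1 : (⊤ : Subgroup G) ≤ centralizer ({n} : Set G) := by
      rw [← hET]
      refine sup_le ?_ ?_
      · intro e he
        rw [mem_centralizer_singleton_iff]
        exact (hNE n hn.1 e he).symm
      · intro t ht
        rw [mem_centralizer_singleton_iff]
        exact C.tab t ht n hn.2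
    rw [mem_center_iff]
    intro g
    exact mem_centralizer_singleton_iff.1 (h1 (mem_top g))
  intro n hn
  have h1 := hcDn n (hNM hn) (hND n hn)
  apply hNTz
  refine ⟨hn, hfaith n h1 ?_⟩
  intro t ht
  apply hNTz
  refine ⟨?_, C.T.mul_mem (h1 t ht) (C.T.inv_mem ht)⟩
  have h3 : n * t * n⁻¹ * t⁻¹ = n * (t * n⁻¹ * t⁻¹) := by group
  rw [h3]
  exact N.mul_mem hn (hN.conj_mem _ (N.inv_mem hn) t)

/-- The hypotheses of `nc`. -/
structure Nc : Prop where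
  qs : ∀ N : Subgroup G, N ≤ C.D → (∀ d ∈ C.D, ∀ n ∈ N, d * n * d⁻¹ ∈ N) →
      C.D ≤ N ∨ ∀ n ∈ N, ∀ d ∈ C.D, n * d = d * n
  perf : ⁅C.D, C.D⁆ = C.D
  cdn : ∀ m ∈ C.M, (∀ d ∈ C.D, m * d = d * m) → ∀ t ∈ C.T, m * t * m⁻¹ ∈ C.T
  faith : ∀ n : G, (∀ t ∈ C.T, n * t * n⁻¹ ∈ C.T) → (∀ t ∈ C.T, n * t * n⁻¹ * t⁻¹ ∈ center G) → n ∈ C.T

/-- `nc` in the quotient by the centre. -/
theorem nc_quot (hC : C.Nc) (N : Subgroup (G ⧸ center G)) (hN : N.Normal)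
    (hNT : N ⊔ C.T.map (QuotientGroup.mk' (center G)) ≠ ⊤) : N = ⊥ := by
  have h1 : N.comap (QuotientGroup.mk' (center G)) ≤ center G := by
    apply C.nc hC.qs hC.perf hC.cdn hC.faith _ (hN.comap _)
    intro h
    apply hNT
    have h2 : (N.comap (QuotientGroup.mk' (center G)) ⊔ C.T).map (QuotientGroup.mk' (center G)) = ⊤ := by
      rw [h, ← MonoidHom.range_eq_map, MonoidHom.range_eq_top]
      exact QuotientGroup.mk'_surjective _
    rw [Subgroup.map_sup, map_comap_eq_self_of_surjective (QuotientGroup.mk'_surjective _)] at h2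
    exact h2
  rw [eq_bot_iff]
  intro x hx
  obtain ⟨y, rfl⟩ := QuotientGroup.mk'_surjective _ x
  rw [mem_bot]
  exact (QuotientGroup.eq_one_iff y).2 (h1 hx)

theorem mk_mem_M {g : G} (hg : (QuotientGroup.mk' (center G)) g ∈ C.M.map (QuotientGroup.mk' (center G))) :
    g ∈ C.M := by
  obtain ⟨m, hm, hmg⟩ := hg
  have h1 : m⁻¹ * g ∈ center G := (QuotientGroup.eq (s := center G)).1 hmg
  have h2 : g = m * (m⁻¹ * g) := by group
  rw [h2]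
  exact mul_mem hm (C.tm (C.center_le h1))

theorem mk_eq_one {g : G} : (QuotientGroup.mk' (center G)) g = 1 ↔ g ∈ center G := QuotientGroup.eq_one_iff g

/-- The 2-part of `Y / Z`. -/
def A2 : Subgroup (G ⧸ center G) where
  carrier := {a | a ∈ C.Y.map (QuotientGroup.mk' (center G)) ∧ ∃ k : ℕ, a ^ 2 ^ k = 1}
  one_mem' := ⟨one_mem _, 0, by simp⟩
  mul_mem' := by
    rintro a b ⟨ha, k, hk⟩ ⟨hb, l, hl⟩
    refine ⟨mul_mem ha hb, k + l, ?_⟩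
    obtain ⟨y, hy, rfl⟩ := ha
    obtain ⟨y', hy', rfl⟩ := hb
    have hc : Commute ((QuotientGroup.mk' (center G)) y) ((QuotientGroup.mk' (center G)) y') := by
      change _ * _ = _ * _
      rw [← map_mul, ← map_mul, C.tab y (C.yt hy) y' (C.yt hy')]
    rw [hc.mul_pow, pow_add, pow_mul, hk, one_pow, one_mul, mul_comm (2 ^ k), pow_mul, hl, one_pow]
  inv_mem' := by
    rintro a ⟨ha, k, hk⟩
    exact ⟨inv_mem ha, k, by rw [inv_pow, hk, inv_one]⟩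

theorem mem_A2 {a : G ⧸ center G} : a ∈ C.A2 ↔ a ∈ C.Y.map (QuotientGroup.mk' (center G)) ∧ ∃ k : ℕ, a ^ 2 ^ k = 1 :=
  Iff.rfl

/-- strong control in the quotient -/
theorem ctl_A2 {f a : G ⧸ center G} (ha : a ∈ C.A2) (ha1 : a ≠ 1)
    (hf : f * a * f⁻¹ ∈ C.M.map (QuotientGroup.mk' (center G))) : f ∈ C.M.map (QuotientGroup.mk' (center G)) := by
  classical
  obtain ⟨haY, hk⟩ := C.mem_A2.1 ha
  obtain ⟨y, hy, rfl⟩ := haY
  obtain ⟨g, rfl⟩ := QuotientGroup.mk'_surjective _ f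
  set π := QuotientGroup.mk' (center G) with hπ
  have hk1 : Nat.find hk ≠ 0 := by
    intro h
    have h1 := Nat.find_spec hk
    rw [h, pow_zero, pow_one] at h1
    exact ha1 h1
  obtain ⟨j, hj⟩ := Nat.exists_eq_succ_of_ne_zero hk1
  have h1 : π y ^ 2 ^ j ≠ 1 := Nat.find_min hk (by omega)
  have h2 : (π y ^ 2 ^ j) ^ 2 = 1 := by
    have := Nat.find_spec hk
    rw [hj] at this
    rw [← pow_mul, ← pow_succ]
    exact this
  have h3 : y ^ 2 ^ j ∉ center G := by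
    intro h
    apply h1
    rw [← map_pow]
    exact mk_eq_one.2 h
  have h4 : (y ^ 2 ^ j) ^ 2 ∈ center G := by
    rw [← mk_eq_one, map_pow, map_pow]
    exact h2
  have h5 : g * y ^ 2 ^ j * g⁻¹ ∈ C.M := by
    apply C.mk_mem_M
    rw [map_mul, map_mul, map_pow, map_inv, ← conj_pow]
    exact pow_mem hf _
  exact ⟨g, C.ctl2 (pow_mem (C.yt hy) _) h3 h4 h5, rfl⟩

/-- **Endgame I** (Goldschmidt). -/
theorem false_gold {G : Type u} [Group G] [Finite G] {R : Type v} (C : P5b G R) (hgold : Gold.{u}) (hC : C.Nc)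
    (hY : ∃ y ∈ C.Y, y ^ 2 ∈ center G ∧ y ∉ center G)
    (u : G) (huD : u ∈ C.D) (hu2 : u ^ 2 ∈ center G) (huT : u ∉ C.T) : False := by
  classical
  have huz : u ∉ center G := fun h => huT (C.center_le h)
  set π := QuotientGroup.mk' (center G) with hπ
  have hpD : ⁅C.D.map π, C.D.map π⁆ = C.D.map π := by rw [← map_commutator, hC.perf]
  have hord : orderOf (π u) = 2 := by
    apply orderOf_eq_prime
    · rw [← map_pow]; exact mk_eq_one.2 hu2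
    · exact fun h => huz (mk_eq_one.1 h)
  refine final_gold hgold (C.T.map π) (C.M.map π) C.A2 (C.D.map π) ?_ (C.nc_quot hC) hpD ?_ ?_ ?_ ?_ ?_
    (fun f a ha ha1 hf => C.ctl_A2 ha ha1 hf) (π u) ⟨u, huD, rfl⟩ hord ?_ ?_
  · rintro _ ⟨a, ha, rfl⟩ _ ⟨b, hb, rfl⟩
    rw [← map_mul, ← map_mul, C.tab a ha b hb]
  · rintro a ⟨⟨y, hy, rfl⟩, -⟩ b ⟨⟨y', hy', rfl⟩, -⟩
    rw [← map_mul, ← map_mul, C.tab y (C.yt hy) y' (C.yt hy')]
  · intro a
    obtain ⟨k, hk⟩ := (C.mem_A2.1 a.2).2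
    exact ⟨k, Subtype.ext hk⟩
  · obtain ⟨y, hy, hy2, hyz⟩ := hY
    intro h
    have h1 : π y ∈ C.A2 := ⟨⟨y, hy, rfl⟩, 1, by rw [pow_one, ← map_pow]; exact mk_eq_one.2 hy2⟩
    rw [h, mem_bot] at h1
    exact hyz (mk_eq_one.1 h1)
  · rintro a ⟨⟨y, hy, rfl⟩, -⟩
    exact ⟨y, C.tm (C.yt hy), rfl⟩
  · rintro _ ⟨m, hm, rfl⟩ a ⟨⟨y, hy, rfl⟩, k, hk⟩
    refine ⟨⟨m * y * m⁻¹, C.yn m hm y hy, by rw [map_mul, map_mul, map_inv]⟩, k, ?_⟩
    rw [conj_pow, hk]; simp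
  · rintro ⟨⟨y, hy, hyu⟩, -⟩
    apply huT
    have h1 : y⁻¹ * u ∈ center G := (QuotientGroup.eq (s := center G)).1 hyu
    have h2 : u = y * (y⁻¹ * u) := by group
    rw [h2]
    exact mul_mem (C.yt hy) (C.center_le h1)
  · rintro _ ⟨⟨y, hy, rfl⟩, -⟩
    rw [← map_mul, ← map_mul, C.yd y hy u huD]

/-- **Endgame II** (`Z*`). -/
theorem false_zstar {G : Type u} [Group G] [Finite G] {R : Type v} (C : P5b G R) (hC : C.Nc)
    (z : G) (hzD : z ∈ C.D) (hzY : z ∈ C.Y) (hz2 : z ^ 2 ∈ center G) (hz1 : z ∉ center G)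
    (hzM : ∀ m ∈ C.M, m * z * m⁻¹ = z) : False := by
  classical
  set π := QuotientGroup.mk' (center G) with hπ
  have hpD : ⁅C.D.map π, C.D.map π⁆ = C.D.map π := by rw [← map_commutator, hC.perf]
  have hord : orderOf (π z) = 2 := by
    apply orderOf_eq_prime
    · rw [← map_pow]; exact mk_eq_one.2 hz2
    · exact fun h => hz1 (mk_eq_one.1 h)
  refine final_zstar (C.T.map π) (C.D.map π) ?_ (C.nc_quot hC) hpD (π z) ⟨z, hzD, rfl⟩ hord (π z) hord ?_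
  · rintro _ ⟨a, ha, rfl⟩ _ ⟨b, hb, rfl⟩
    rw [← map_mul, ← map_mul, C.tab a ha b hb]
  · intro f hf
    obtain ⟨g, rfl⟩ := QuotientGroup.mk'_surjective _ f
    -- `g z g⁻¹` commutes with `z` modulo the centre, so it lies in `M`
    have h1 : g * z * g⁻¹ ∈ C.M := by
      have h2 : z⁻¹ * ((g * z * g⁻¹) * z * (g * z * g⁻¹)⁻¹) ∈ center G := by
        have h3 : π z * (π g * π z * (π g)⁻¹) = (π g * π z * (π g)⁻¹) * π z := hf
        have h4 : π (z * (g * z * g⁻¹)) = π ((g * z * g⁻¹) * z) := by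
          simpa only [map_mul, map_inv] using h3
        have h5 : (z * (g * z * g⁻¹))⁻¹ * ((g * z * g⁻¹) * z) ∈ center G := (QuotientGroup.eq (s := center G)).1 h4
        have h6 : z⁻¹ * ((g * z * g⁻¹) * z * (g * z * g⁻¹)⁻¹) =
            (g * z * g⁻¹) * ((z * (g * z * g⁻¹))⁻¹ * ((g * z * g⁻¹) * z)) * (g * z * g⁻¹)⁻¹ := by group
        rw [h6]
        exact Normal.conj_mem inferInstance _ h5 _
      apply C.mem_of_T (C.yt hzY) hz1
      have h7 : (g * z * g⁻¹) * z * (g * z * g⁻¹)⁻¹ = z * (z⁻¹ * ((g * z * g⁻¹) * z * (g * z * g⁻¹)⁻¹)) := by group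
      rw [h7]
      exact mul_mem (C.yt hzY) (C.center_le h2)
    have h2 : g ∈ C.M := C.ctl2 (C.yt hzY) hz1 hz2 h1
    rw [← map_inv, ← map_mul, ← map_mul, hzM g h2]

end P5b

end Cfsg.Agent.H103.OT
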