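import Cfsg.Prelude.Def_TwoFusion
import Cfsg.Prelude.Def_Solvable
import Cfsg.Prelude.Def_PLocal
import Cfsg.Prelude.Def_LocalEven
import Cfsg.Agent.S0215
import Cfsg.Agent.Lib.Cores

/-!
# S2539, part (5): the endgame (Goldschmidt, Z*)

`Gold` : the part of S2775 that is used.
`strong_closed` : an abelian normal 2-subgroup `A` of `M` such that `M` controls strongly the nontrivial elements of `A` is
strongly closed.
`gold_end`, `final_gold`, `final_zstar`.
-/

set_option autoImplicit false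

namespace Cfsg.Agent.H103.OT

open Subgroup Cfsg
open scoped commutatorElement

universe u

/-- The part of S2775 used here. -/
def Gold : Prop := ∀ (G : Type u) [Group G] [Finite G] (S : Sylow 2 G) (A : Subgroup G), IsMulCommutative ↥A →
  IsStronglyClosed A (S : Subgroup G) → ∀ (Q : Type u) [Group Q] (π : ↥(normalClosure (A : Set G)) →* Q),
  Function.Surjective π → π.ker = pPrimeCore 2 ↥(normalClosure (A : Set G)) →
  ∃ T : Sylow 2 Q, (A.subgroupOf (normalClosure (A : Set G))).map π ≤ (T : Subgroup Q) ∧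
    (A.subgroupOf (normalClosure (A : Set G))).map π = pCore 2 Q ⊔ omegaOne 2 (T : Subgroup Q)

variable {G : Type u} [Group G] [Finite G]

/-- The Sylow 2-subgroups of `M` are Sylow in `G`. -/
theorem exists_sylow_le (M A : Subgroup G) (hA2 : IsPGroup 2 ↥A) (hA1 : A ≠ ⊥) (hAM : A ≤ M)
    (hctl : ∀ f : G, ∀ a ∈ A, a ≠ 1 → f * a * f⁻¹ ∈ M → f ∈ M) :
    ∃ P : Sylow 2 G, A ≤ (P : Subgroup G) ∧ (P : Subgroup G) ≤ M := by
  classical
  have : Fact (Nat.Prime 2) := ⟨Nat.prime_two⟩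
  -- a Sylow subgroup of M containing A
  have hA2' : IsPGroup 2 ↥(A.subgroupOf M) := hA2.comap_of_injective _ (Subtype.coe_injective)
  obtain ⟨P0, hP0⟩ := hA2'.exists_le_sylow
  have hP0p : IsPGroup 2 ↥((P0 : Subgroup M).map M.subtype) := P0.isPGroup'.map _
  obtain ⟨P, hP⟩ := hP0p.exists_le_sylow
  have hAP0 : A ≤ (P0 : Subgroup M).map M.subtype := by
    intro a ha
    exact ⟨⟨a, hAM ha⟩, hP0 (mem_subgroupOf.2 ha), rfl⟩
  -- an element a ≠ 1
  obtain ⟨a, ha, ha1⟩ : ∃ a ∈ A, a ≠ 1 := by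
    by_contra h
    push Not at h
    exact hA1 ((eq_bot_iff_forall _).2 h)
  refine ⟨P, hAP0.trans hP, ?_⟩
  by_contra hPM
  -- P0 < P, so the normalizer of P0 in P is bigger
  have hlt : (P0 : Subgroup M).map M.subtype < (P : Subgroup G) := by
    refine lt_of_le_of_ne hP ?_
    intro h
    apply hPM
    rw [← h]
    exact map_subtype_le _
  set R : Subgroup ↥(P : Subgroup G) := ((P0 : Subgroup M).map M.subtype).subgroupOf (P : Subgroup G) with hR
  have hRtop : R < ⊤ := by
    rw [lt_top_iff_ne_top]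
    intro h
    exact not_le_of_gt hlt (subgroupOf_eq_top.1 h)
  have hnil : Group.IsNilpotent ↥(P : Subgroup G) := P.isPGroup'.isNilpotent
  have hnorm : NormalizerCondition ↥(P : Subgroup G) := Group.normalizerCondition_of_isNilpotent
  obtain ⟨g, hgN, hgR⟩ := SetLike.exists_of_lt (hnorm R hRtop)
  -- g normalises P0
  have hgM : (g : G) ∈ M := by
    refine hctl (g : G) a ha ha1 ?_
    have h1 : (⟨a, hP (hAP0 ha)⟩ : ↥(P : Subgroup G)) ∈ R := mem_subgroupOf.2 (hAP0 ha)
    have h2 := (mem_normalizer_iff.1 hgN _).1 h1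
    have h3 : (g : G) * a * (g : G)⁻¹ ∈ (P0 : Subgroup M).map M.subtype := mem_subgroupOf.1 h2
    exact map_subtype_le _ h3
  -- then ⟨P0, g⟩ is a 2-subgroup of M
  have h4 : ((P : Subgroup G) ⊓ M).subgroupOf M = (P0 : Subgroup M) := by
    have h5 : IsPGroup 2 ↥(((P : Subgroup G) ⊓ M).subgroupOf M) := by
      refine IsPGroup.comap_of_injective ?_ _ Subtype.coe_injective
      exact P.isPGroup'.to_le inf_le_left
    have h6 : (P0 : Subgroup M) ≤ ((P : Subgroup G) ⊓ M).subgroupOf M := by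
      intro x hx
      refine mem_subgroupOf.2 ⟨hP ⟨x, hx, rfl⟩, x.2⟩
    exact P0.is_maximal' h5 h6
  apply hgR
  rw [hR, mem_subgroupOf]
  have h5 : (⟨(g : G), hgM⟩ : M) ∈ (P0 : Subgroup M) := by
    rw [← h4, mem_subgroupOf]
    exact ⟨g.2, hgM⟩
  exact ⟨_, h5, rfl⟩

/-- Strong closure. -/
theorem strong_closed (M A : Subgroup G) (hA2 : IsPGroup 2 ↥A) (hA1 : A ≠ ⊥) (hAM : A ≤ M)
    (hAn : ∀ m ∈ M, ∀ a ∈ A, m * a * m⁻¹ ∈ A)
    (hctl : ∀ f : G, ∀ a ∈ A, a ≠ 1 → f * a * f⁻¹ ∈ M → f ∈ M) :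
    ∃ P : Sylow 2 G, IsStronglyClosed A (P : Subgroup G) := by
  obtain ⟨P, hAP, hPM⟩ := exists_sylow_le M A hA2 hA1 hAM hctl
  refine ⟨P, hAP, ?_⟩
  intro a ha g hg
  by_cases h1 : a = 1
  · subst h1
    simp [A.one_mem]
  · exact hAn g (hctl g a ha h1 (hPM hg)) a ha

/-- A strongly closed subgroup is strongly closed in every Sylow subgroup that contains it. -/
theorem strong_closed_other {P P1 : Sylow 2 G} {A : Subgroup G} (hsc : IsStronglyClosed A (P : Subgroup G))
    (hA : A ≤ (P1 : Subgroup G)) : IsStronglyClosed A (P1 : Subgroup G) := by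
  have : Fact (Nat.Prime 2) := ⟨Nat.prime_two⟩
  obtain ⟨h, hh⟩ := MulAction.exists_smul_eq G P P1
  have hmem : ∀ x : G, x ∈ (P1 : Subgroup G) ↔ h⁻¹ * x * h ∈ (P : Subgroup G) := by
    intro x
    rw [← hh, Sylow.coe_subgroup_smul, Subgroup.mem_smul_pointwise_iff_exists]
    constructor
    · rintro ⟨y, hy, rfl⟩
      simpa [MulAut.smul_def, MulAut.conj_apply, mul_assoc] using hy
    · intro hy
      exact ⟨_, hy, by simp [MulAut.smul_def, MulAut.conj_apply, mul_assoc]⟩
  -- `h⁻¹ A h ≤ A`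
  have h1 : ∀ a ∈ A, h⁻¹ * a * h ∈ A := by
    intro a ha
    have h2 := hsc.2 a ha h⁻¹ (by simpa using (hmem a).1 (hA ha))
    simpa using h2
  -- `h A h⁻¹ ≤ A`
  have h3 : A.map (MulAut.conj h⁻¹).toMonoidHom = A := by
    apply eq_of_le_of_card_ge
    · rintro _ ⟨a, ha, rfl⟩
      simpa [MulAut.conj_apply] using h1 a ha
    · rw [card_map_of_injective (MulAut.conj h⁻¹).injective]
  have h4 : ∀ a ∈ A, h * a * h⁻¹ ∈ A := by
    intro a ha
    rw [← h3] at ha
    obtain ⟨b, hb, rfl⟩ := ha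
    simpa [MulAut.conj_apply, mul_assoc] using hb
  refine ⟨hA, ?_⟩
  intro x hx g hg
  have h5 : (h⁻¹ * g) * x * (h⁻¹ * g)⁻¹ ∈ (P : Subgroup G) := by
    have := (hmem _).1 hg
    simpa [mul_assoc] using this
  have h6 := h4 _ (hsc.2 x hx _ h5)
  simpa [mul_assoc] using h6

/-- Involutions of the normal closure that centralise a strongly closed abelian 2-subgroup. -/
theorem gold_end (hgold : Gold.{u}) (P : Sylow 2 G) (A : Subgroup G) (hAab : IsMulCommutative ↥A)
    (hsc : IsStronglyClosed A (P : Subgroup G))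
    (hcore : pPrimeCore 2 ↥(normalClosure (A : Set G)) = ⊥) (u : G) (hu : u ∈ normalClosure (A : Set G))
    (hu2 : u * u = 1) (hcomm : ∀ a ∈ A, a * u = u * a) : u ∈ A := by
  classical
  have : Fact (Nat.Prime 2) := ⟨Nat.prime_two⟩
  obtain ⟨T, hT1, hT2⟩ := hgold G P A hAab hsc ↥(normalClosure (A : Set G)) (MonoidHom.id _)
    Function.surjective_id (by rw [hcore]; ext x; simp)
  rw [map_id] at hT1 hT2
  have hom : ∀ x : ↥(normalClosure (A : Set G)), x ∈ omegaOne 2 (T : Subgroup ↥(normalClosure (A : Set G))) →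
      (x : G) ∈ A := by
    intro x hx
    refine mem_subgroupOf.1 (?_ : x ∈ A.subgroupOf (normalClosure (A : Set G)))
    rw [hT2]
    exact mem_sup_right hx
  clear hT1 hT2
  generalize hK : normalClosure (A : Set G) = K at *
  have hAK : A ≤ K := by rw [← hK]; exact le_normalClosure
  have hA2 : IsPGroup 2 ↥A := P.isPGroup'.to_le hsc.1
  -- the 2-group `A ⊔ ⟨u⟩`
  let u' : K := ⟨u, hu⟩
  have hu' : u' ^ 2 = 1 := Subtype.ext (by simpa [pow_two] using hu2)
  have hZ : IsPGroup 2 ↥(zpowers u') := by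
    apply IsPGroup.of_card (n := if u' = 1 then 0 else 1)
    rw [Nat.card_zpowers]
    split_ifs with h
    · simp [h]
    · rw [pow_one]
      exact orderOf_eq_prime hu' h
  have hA2K : IsPGroup 2 ↥(A.subgroupOf K) := hA2.comap_of_injective _ (Subtype.coe_injective)
  have hnorm : (A.subgroupOf K) ≤ normalizer (zpowers u' : Set K) := by
    intro a ha
    rw [mem_normalizer_iff]
    intro x
    have hc : Commute a u' := by
      apply Subtype.ext
      exact hcomm a (mem_subgroupOf.1 ha)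
    constructor
    · intro hx
      obtain ⟨k, rfl⟩ := mem_zpowers_iff.1 hx
      have := hc.zpow_right k
      rw [this.eq, mul_assoc, mul_inv_cancel, mul_one]
      exact zpow_mem (mem_zpowers _) _
    · intro hx
      obtain ⟨k, hk⟩ := mem_zpowers_iff.1 hx
      have := hc.zpow_right k
      have h2 : x = u' ^ k := by
        have h3 : x = a⁻¹ * (a * x * a⁻¹) * a := by group
        rw [h3, ← hk, mul_assoc, ← this.eq, inv_mul_cancel_left]
      rw [h2]
      exact zpow_mem (mem_zpowers _) _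
  have hR : IsPGroup 2 ↥(A.subgroupOf K ⊔ zpowers u') := hA2K.to_sup_of_normal_right' hZ hnorm
  obtain ⟨T', hT'⟩ := hR.exists_le_sylow
  obtain ⟨g, hg⟩ := MulAction.exists_smul_eq K T T'
  have hu'T : u' ∈ (T' : Subgroup K) := hT' (le_sup_right (a := A.subgroupOf K) (mem_zpowers u'))
  have hg1 : g⁻¹ * u' * g ∈ (T : Subgroup K) := by
    rw [← hg, Sylow.coe_subgroup_smul, Subgroup.mem_smul_pointwise_iff_exists] at hu'T
    obtain ⟨y, hy, hy2⟩ := hu'T
    rw [← hy2]
    simpa [MulAut.smul_def, MulAut.conj_apply, mul_assoc] using hy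
  have hg2 : g⁻¹ * u' * g ∈ omegaOne 2 (T : Subgroup K) := by
    apply Subgroup.subset_closure
    refine ⟨hg1, ?_⟩
    have : (g⁻¹ * u' * g) ^ 2 = g⁻¹ * u' ^ 2 * g := by
      rw [pow_two, pow_two]; group
    rw [this, hu']; simp
  have hg3 : (g : G)⁻¹ * u * (g : G) ∈ A := by
    have h := hom (g⁻¹ * u' * g) hg2
    simpa [u'] using h
  -- a Sylow subgroup of `G` containing `T'`
  have hTG : IsPGroup 2 ↥((T' : Subgroup K).map K.subtype) := T'.isPGroup'.map _
  obtain ⟨P1, hP1⟩ := hTG.exists_le_sylow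
  have hAP1 : A ≤ (P1 : Subgroup G) := by
    intro a ha
    exact hP1 ⟨⟨a, hAK ha⟩, hT' (le_sup_left (a := A.subgroupOf K) (mem_subgroupOf.2 ha)), rfl⟩
  have huP1 : u ∈ (P1 : Subgroup G) := hP1 ⟨u', hu'T, rfl⟩
  have hsc1 := strong_closed_other hsc hAP1
  have h5 := hsc1.2 _ hg3 (g : G) (by simpa [mul_assoc] using huP1)
  simpa [mul_assoc] using h5

/-- Every nontrivial normal subgroup contains the perfect group `D`. -/
theorem le_of_nc (T D : Subgroup G) (hTab : ∀ a ∈ T, ∀ b ∈ T, a * b = b * a)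
    (hNC : ∀ N : Subgroup G, N.Normal → N ⊔ T ≠ ⊤ → N = ⊥) (hD : ⁅D, D⁆ = D) :
    ∀ N : Subgroup G, N.Normal → N ≠ ⊥ → D ≤ N := by
  intro N hN hN1
  have h1 : N ⊔ T = ⊤ := by
    by_contra h
    exact hN1 (hNC N hN h)
  have h2 : ⁅(⊤ : Subgroup G), (⊤ : Subgroup G)⁆ ≤ N := by
    rw [← h1, commutator_le]
    intro x hx y hy
    obtain ⟨a, ha, t, ht, rfl⟩ := (mem_sup_of_normal_left).1 hx
    obtain ⟨b, hb, s, hs, rfl⟩ := (mem_sup_of_normal_left).1 hy
    have h3 : (QuotientGroup.mk' N) ⁅a * t, b * s⁆ = 1 := by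
      have ha' : (QuotientGroup.mk' N) a = 1 := (QuotientGroup.eq_one_iff a).2 ha
      have hb' : (QuotientGroup.mk' N) b = 1 := (QuotientGroup.eq_one_iff b).2 hb
      rw [map_commutatorElement, map_mul, map_mul, ha', hb', one_mul, one_mul, commutatorElement_eq_one_iff_mul_comm,
        ← map_mul, ← map_mul, hTab t ht s hs]
    exact (QuotientGroup.eq_one_iff _).1 h3
  calc D = ⁅D, D⁆ := hD.symm
    _ ≤ ⁅(⊤ : Subgroup G), (⊤ : Subgroup G)⁆ := commutator_mono le_top le_top
    _ ≤ N := h2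

/-- `O_{2'}` of a normal subgroup is trivial. -/
theorem core_of_nc (T K D : Subgroup G) (hTab : ∀ a ∈ T, ∀ b ∈ T, a * b = b * a)
    (hNC : ∀ N : Subgroup G, N.Normal → N ⊔ T ≠ ⊤ → N = ⊥) [hKn : K.Normal]
    (hD : ⁅D, D⁆ = D) (u : G) (hu : u ∈ D) (hu2 : orderOf u = 2) : pPrimeCore 2 ↥K = ⊥ := by
  classical
  have key := le_of_nc T D hTab hNC hD
  by_contra hO
  have hn : ((pPrimeCore 2 ↥K).map K.subtype).Normal := by
    rw [Lib.Cores.map_subtype_pPrimeCore 2 hKn]
    infer_instance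
  have h1 : D ≤ (pPrimeCore 2 ↥K).map K.subtype := by
    apply key _ hn
    intro h
    apply hO
    rwa [map_eq_bot_iff_of_injective _ (Subtype.coe_injective)] at h
  obtain ⟨v, hv, hvu⟩ := h1 hu
  have h2 : orderOf v = 2 := by
    rw [← hu2, ← hvu]
    exact (orderOf_injective K.subtype (Subtype.coe_injective) v).symm
  have h3 : (Nat.card (pPrimeCore 2 ↥K)).Coprime 2 := Lib.Cores.pPrimeCore_coprime 2
  have h4 : 2 ∣ Nat.card (pPrimeCore 2 ↥K) := by
    have h5 : orderOf (⟨v, hv⟩ : pPrimeCore 2 ↥K) = 2 := by rw [Subgroup.orderOf_mk, h2]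
    have h6 := orderOf_dvd_natCard (⟨v, hv⟩ : pPrimeCore 2 ↥K)
    rwa [h5] at h6
  have h5 := Nat.Coprime.eq_one_of_dvd h3.symm h4
  omega

/-- **Endgame I.**  An abelian normal 2-subgroup `A ≠ 1` of `M`, strongly controlled by `M`, centralised by a perfect
group `D` with an involution outside `A`: impossible. -/
theorem final_gold (hgold : Gold.{u}) (T M A D : Subgroup G) (hTab : ∀ a ∈ T, ∀ b ∈ T, a * b = b * a)
    (hNC : ∀ N : Subgroup G, N.Normal → N ⊔ T ≠ ⊤ → N = ⊥) (hD : ⁅D, D⁆ = D)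
    (hAab : ∀ a ∈ A, ∀ b ∈ A, a * b = b * a) (hA2 : IsPGroup 2 ↥A) (hA1 : A ≠ ⊥) (hAM : A ≤ M)
    (hAn : ∀ m ∈ M, ∀ a ∈ A, m * a * m⁻¹ ∈ A)
    (hctl : ∀ f : G, ∀ a ∈ A, a ≠ 1 → f * a * f⁻¹ ∈ M → f ∈ M) (u : G) (huD : u ∈ D) (hu2 : orderOf u = 2)
    (huA : u ∉ A) (hcomm : ∀ a ∈ A, a * u = u * a) : False := by
  obtain ⟨P, hsc⟩ := strong_closed M A hA2 hA1 hAM hAn hctl
  have hK1 : normalClosure (A : Set G) ≠ ⊥ := by
    intro h
    apply hA1
    rw [eq_bot_iff, ← h]
    exact le_normalClosure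
  have h1 := core_of_nc T (normalClosure (A : Set G)) D hTab hNC hD u huD hu2
  have h2 := le_of_nc T D hTab hNC hD _ normalClosure_normal hK1
  apply huA
  refine gold_end hgold P A ⟨⟨fun a b => Subtype.ext (hAab a a.2 b b.2)⟩⟩ hsc h1 u (h2 huD) ?_ hcomm
  have := pow_orderOf_eq_one u
  rw [hu2, pow_two] at this
  exact this

/-- **Endgame II.**  There is no isolated involution. -/
theorem final_zstar (T D : Subgroup G) (hTab : ∀ a ∈ T, ∀ b ∈ T, a * b = b * a)
    (hNC : ∀ N : Subgroup G, N.Normal → N ⊔ T ≠ ⊤ → N = ⊥) (hD : ⁅D, D⁆ = D) (u : G) (huD : u ∈ D)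
    (hu2 : orderOf u = 2) (z : G) (hz2 : orderOf z = 2)
    (hiso : ∀ g : G, Commute z (g * z * g⁻¹) → g * z * g⁻¹ = z) : False := by
  classical
  have : Fact (Nat.Prime 2) := ⟨Nat.prime_two⟩
  have key := le_of_nc T D hTab hNC hD
  -- a Sylow subgroup of the centraliser
  set C := centralizer ({z} : Set G) with hC
  have hzC : z ∈ C := mem_centralizer_singleton_iff.2 rfl
  obtain ⟨P, hP, hzP, hcz⟩ : ∃ P : Sylow 2 G, True ∧ z ∈ (P : Subgroup G) ∧ (P : Subgroup G) ≤ C := by
    have hZ : IsPGroup 2 ↥(zpowers z) := by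
      apply IsPGroup.of_card (n := 1)
      rw [Nat.card_zpowers, hz2, pow_one]
    have hA1 : zpowers z ≠ ⊥ := by
      rw [Ne, zpowers_eq_bot]
      rintro rfl
      simp at hz2
    obtain ⟨P, hP1, hP2⟩ := exists_sylow_le C (zpowers z) hZ hA1 (zpowers_le.2 hzC) (by
      intro f a ha ha1 hf
      -- a = z
      have haz : a = z := by
        rcases mem_zpowers_iff.1 ha with ⟨k, rfl⟩
        rcases Int.even_or_odd k with ⟨m, hm⟩ | ⟨m, hm⟩
        · exfalso
          apply ha1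
          rw [hm, ← two_mul, zpow_mul]
          have : z ^ (2 : ℤ) = 1 := by
            have := pow_orderOf_eq_one z
            rw [hz2] at this
            exact_mod_cast this
          rw [this, one_zpow]
        · rw [hm, zpow_add, zpow_mul]
          have : z ^ (2 : ℤ) = 1 := by
            have := pow_orderOf_eq_one z
            rw [hz2] at this
            exact_mod_cast this
          rw [this, one_zpow, one_mul, zpow_one]
      subst haz
      have h1 : Commute a (f * a * f⁻¹) := by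
        have := mem_centralizer_singleton_iff.1 hf
        exact this.symm
      have h2 := hiso f h1
      rw [hC, mem_centralizer_singleton_iff]
      calc f * a = (f * a * f⁻¹) * f := by group
        _ = a * f := by rw [h2])
    exact ⟨P, trivial, hP1 (mem_zpowers z), hP2⟩
  obtain ⟨N, hN, hodd, hNz⟩ := Cfsg.Agent.S0215.result P z hz2 hzP (by
    intro g hg
    apply hiso
    have := mem_centralizer_singleton_iff.1 (hcz hg)
    exact this.symm)
  -- N = ⊥
  have hN1 : N = ⊥ := by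
    by_contra h
    have h1 := key N hN h huD
    have h2 : 2 ∣ Nat.card N := by
      rw [← hu2, ← orderOf_mk u h1]
      exact orderOf_dvd_natCard _
    exact (Nat.not_even_iff_odd.2 hodd) (even_iff_two_dvd.2 h2)
  have hcen : ∀ g : G, z * g = g * z := by
    intro g
    have h1 := hNz g
    rw [hN1, mem_bot] at h1
    have h2 : z * g * z⁻¹ * g⁻¹ = 1 := h1
    calc z * g = (z * g * z⁻¹ * g⁻¹) * g * z := by group
      _ = g * z := by rw [h2, one_mul]
  have hn : (zpowers z).Normal := by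
    constructor
    intro n hn g
    rcases mem_zpowers_iff.1 hn with ⟨k, rfl⟩
    have : Commute z g := hcen g
    rw [(this.zpow_left k).symm.eq, mul_assoc, mul_inv_cancel, mul_one]
    exact zpow_mem (mem_zpowers z) k
  have h3 : D ≤ zpowers z := by
    apply key _ hn
    rw [Ne, zpowers_eq_bot]
    rintro rfl
    simp at hz2
  have h4 : ⁅D, D⁆ = ⊥ := by
    rw [commutator_eq_bot_iff_le_centralizer]
    intro x hx
    rw [mem_centralizer_iff]
    intro y hy
    obtain ⟨k, rfl⟩ := mem_zpowers_iff.1 (h3 hx)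
    have : Commute z y := hcen y
    exact (this.zpow_left k).symm.eq
  rw [hD] at h4
  rw [h4, mem_bot] at huD
  rw [huD] at hu2
  simp at hu2

end Cfsg.Agent.H103.OT
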