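import Cfsg.Agent.H103.OT.Core2
import Cfsg.Agent.H103.OT.AddLau
import Cfsg.Agent.H186.OT.Iface
import Cfsg.Agent.H274.OT.CYTab
import Cfsg.Agent.H274.OT.BT
import Cfsg.Agent.H428.OT.CT
import Cfsg.Agent.H428.OT.Tab
import Cfsg.Agent.H3.OT.Refl
import Cfsg.Agent.H501.OT.Conc

/-!
# S2539, part 5: the concrete instance, first level (helper103)

`D = F₄` or `G₂`, `F` least bad, `S_F` any nonempty set of short roots such that `Facts D K F` holds.

* `Facts.a` : `P5a F`;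
* `Facts.le_GS` : `F ≤ G(Ψ)`, `Ψ` the roots trivial on `Z(F)`;
* `mem_Zf_of` : `Z(F) = ⋂_{a ∈ Ψ} ker a`.
-/

set_option autoImplicit false

namespace Cfsg.Agent.H103.OT

open Subgroup Cfsg Cfsg.Lie Cfsg.Agent.H412.OT Cfsg.Agent.H186.OT Cfsg.Agent.H274.OT
open Cfsg.Agent.ChevalleyStructure Cfsg.Agent.ChevalleyStructure.Elts
open scoped commutatorElement

universe u

/-- The facts on `D_F` needed in all cases of part 5. -/
structure Facts (D : ChevalleyDatum) (K : Type u) [Field K] (F : Subgroup (GL D.Idx K)) : Prop where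
  /-- `D_F` is perfect -/
  perf : ⁅DF D K F, DF D K F⁆ = DF D K F
  /-- `C_F(C_T(D_F)) ≤ D_F T` -/
  cYF : centralizer (Y0 D K F : Set (GL D.Idx K)) ⊓ F ≤ DF D K F ⊔ D.diagonalSubgroup K
  /-- `N_F(D_F) ≤ M` -/
  normD : ∀ g ∈ F, (∀ d ∈ DF D K F, g * d * g⁻¹ ∈ DF D K F) → g ∈ MF D K F
  /-- `C_T(D_F)` is not contained in `Z(F)` -/
  exy : ∃ y ∈ Y0 D K F, y ∉ Zf F

variable {D : ChevalleyDatum} {K : Type u} [Field K] {F : Subgroup (GL D.Idx K)}

section Gen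

variable {G : Type*} [Group G]

/-- commutators of `A B`, `B` abelian and normalising `A` -/
theorem comm_sup_le {A B : Subgroup G} (hB : ∀ a ∈ B, ∀ b ∈ B, a * b = b * a) (hN : B ≤ normalizer (A : Set G)) :
    ⁅A ⊔ B, A ⊔ B⁆ ≤ A := by
  have hf : ∀ x ∈ A ⊔ B, ∃ a ∈ A, ∃ b ∈ B, x = a * b := by
    intro x hx
    have h1 : x ∈ ((A ⊔ B : Subgroup G) : Set G) := hx
    rw [Subgroup.coe_mul_of_right_le_normalizer_left _ _ hN, Set.mem_mul] at h1
    obtain ⟨a, ha, b, hb, rfl⟩ := h1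
    exact ⟨a, ha, b, hb, rfl⟩
  have hc : ∀ b ∈ B, ∀ a ∈ A, b * a * b⁻¹ ∈ A := fun b hb a ha => (mem_normalizer_iff.1 (hN hb) a).1 ha
  rw [commutator_le]
  intro x hx y hy
  obtain ⟨a, ha, b, hb, rfl⟩ := hf x hx
  obtain ⟨c, hc', d, hd, rfl⟩ := hf y hy
  rw [commutatorElement_def]
  have h1 : a * b * (c * d) * (a * b)⁻¹ * (c * d)⁻¹ = a * (b * c * b⁻¹) * (d * a⁻¹ * d⁻¹) * c⁻¹ := by
    have h2 : b * d * b⁻¹ = d := by rw [hB b hb d hd]; group
    calc a * b * (c * d) * (a * b)⁻¹ * (c * d)⁻¹ = a * (b * c * b⁻¹) * ((b * d * b⁻¹) * a⁻¹ * d⁻¹) * c⁻¹ := by group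
      _ = _ := by rw [h2]
  rw [h1]
  exact mul_mem (mul_mem (mul_mem ha (hc b hb c hc')) (hc d hd _ (inv_mem ha))) (inv_mem hc')

end Gen

section

variable [Fintype K] {p : ℕ}

theorem tor_le_normalizer_DF (h : Hyp K p D) (hF : MinBad D K F) :
    D.diagonalSubgroup K ≤ normalizer (DF D K F : Set (GL D.Idx K)) :=
  (le_inf hF.tor (tor_le_norm D K)).trans (norm_le_normalizer_DF h hF.le)

theorem MF_le_normalizer_DF (h : Hyp K p D) (hF : MinBad D K F) :
    MF D K F ≤ normalizer (DF D K F : Set (GL D.Idx K)) :=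
  sup_le le_normalizer (norm_le_normalizer_DF h hF.le)

/-- a conjugate of `D_F` in `M` is contained in `D_F` -/
theorem perf_of (h : Hyp K p D) (hD : D = chevF4 ∨ D = chevG2) (hF : MinBad D K F) (Fc : Facts D K F)
    {g : GL D.Idx K} (hg : g ∈ F) (hgD : ∀ d ∈ DF D K F, g * d * g⁻¹ ∈ MF D K F) :
    ∀ d ∈ DF D K F, g * d * g⁻¹ ∈ DF D K F := by
  have h1 : DF D K F ≤ (DF D K F ⊔ D.diagonalSubgroup K).comap (MulAut.conj g).toMonoidHom := by
    refine iSup₂_le fun r hr x hx => ?_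
    show g * x * g⁻¹ ∈ DF D K F ⊔ D.diagonalSubgroup K
    apply Fc.cYF
    refine mem_inf.2 ⟨?_, mul_mem (mul_mem hg (hr.2 hx)) (inv_mem hg)⟩
    rw [mem_centralizer_iff]
    intro y hy
    exact (root_comm hD h.card (Y0_le F) hr.1
      (fun x hx => MF_le_normalizer_Y0 h hF.le (hgD x (rootSubgroup_le_DF hr hx))) hx hy).symm
  have h2 : (DF D K F).map (MulAut.conj g).toMonoidHom ≤ DF D K F ⊔ D.diagonalSubgroup K := map_le_iff_le_comap.2 h1
  have h3 : (DF D K F).map (MulAut.conj g).toMonoidHom ≤ DF D K F := by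
    conv_lhs => rw [← Fc.perf]
    rw [map_commutator]
    exact (commutator_mono h2 h2).trans (comm_sup_le (fun a ha b hb => H501.OT.tor_comm h.inList ha hb)
      (tor_le_normalizer_DF h hF))
  intro d hd
  exact h3 ⟨d, hd, rfl⟩

/-- the Laurent trick for `T` -/
theorem lt_of (h : Hyp K p D) (hF : MinBad D K F) (Fc : Facts D K F) {g : GL D.Idx K} (hg : g ∈ F)
    (hgT : ∀ t ∈ D.diagonalSubgroup K, g * t * g⁻¹ ∈ MF D K F) :
    ∀ t ∈ D.diagonalSubgroup K, g * t * g⁻¹ ∈ DF D K F ⊔ D.diagonalSubgroup K := by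
  have h1 : D.diagonalSubgroup K ≤ (DF D K F ⊔ D.diagonalSubgroup K).comap (MulAut.conj g).toMonoidHom := by
    conv_lhs => rw [H428.OT.tor_eq_iSup_long (K := K) h.mem]
    refine iSup₂_le fun r hr x hx => ?_
    show g * x * g⁻¹ ∈ DF D K F ⊔ D.diagonalSubgroup K
    have h2 : (Hr D K r).map (MulAut.conj g).toMonoidHom ≤ MF D K F := by
      rintro _ ⟨x, hx, rfl⟩
      exact hgT x (Hr_le h.inList hr.1 hx)
    have h3 := comm_Y0_of_le_MF h hF.le hr.1 (fun s hs => window_long h.inList hr hs) h2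
    exact Fc.cYF (mem_inf.2 ⟨h3 ⟨x, hx, rfl⟩, mul_mem (mul_mem hg (hF.tor (Hr_le h.inList hr.1 hx))) (inv_mem hg)⟩)
  intro t ht
  exact h1 ht

theorem uniq_of (h : Hyp K p D) (hF : MinBad D K F) (L : Subgroup ↥F)
    (hT : (D.diagonalSubgroup K).subgroupOf F ≤ L) (hL : L ≠ ⊤) : L ≤ (MF D K F).subgroupOf F := by
  have h1 : D.diagonalSubgroup K ≤ L.map F.subtype := fun t ht => ⟨⟨t, hF.tor ht⟩, hT ht, rfl⟩
  have h2 : L.map F.subtype < F := by
    refine lt_of_le_of_ne (map_subtype_le L) fun e => hL ?_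
    rw [eq_top_iff]
    intro x _
    have h3 : (x : GL D.Idx K) ∈ L.map F.subtype := by rw [e]; exact x.2
    obtain ⟨y, hy, hyx⟩ := h3
    rwa [← Subtype.ext hyx]
  have h3 := (hF.lt_iff_le_MF h h1).1 h2
  intro x hx
  exact h3 ⟨x, hx, rfl⟩

/-- **The first level of the configuration.** -/
noncomputable def Facts.a (h : Hyp K p D) (hD : D = chevF4 ∨ D = chevG2) (hF : MinBad D K F) (Fc : Facts D K F) :
    P5a ↥F where
  T := (D.diagonalSubgroup K).subgroupOf F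
  D := (DF D K F).subgroupOf F
  M := (MF D K F).subgroupOf F
  Y := (Y0 D K F).subgroupOf F
  tab a ha b hb := Subtype.ext (H501.OT.tor_comm h.inList ha hb)
  tm x hx := tor_le_MF hF.tor hx
  dm x hx := DF_le_MF F hx
  mtop e := by
    have h1 := hF.MF_lt h
    rw [subgroupOf_eq_top] at e
    exact absurd e (not_le_of_gt h1)
  uniq := uniq_of h hF
  dn m hm d hd := (mem_normalizer_iff.1 (MF_le_normalizer_DF h hF hm) d).1 hd
  yt x hx := Y0_le F hx
  yn m hm y hy := (mem_normalizer_iff.1 (MF_le_normalizer_Y0 h hF.le hm) y).1 hy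
  yd y hy d hd := Subtype.ext ((mem_centralizer_iff.1 (DF_le_centralizer_Y0 F hd) y hy))
  normD g hg := Fc.normD g g.2 fun d hd => hg ⟨d, DF_le F hd⟩ hd
  perf g hg d hd := perf_of h hD hF Fc g.2 (fun d hd => hg ⟨d, DF_le F hd⟩ hd) d hd
  cT g hg := H428.OT.mem_tor_of_comm (by have := h.card; omega) h.inList (hF.le g.2)
    fun t ht => congrArg Subtype.val (hg ⟨t, hF.tor ht⟩ ht)
  lt g hg t ht := by
    rw [← subgroupOf_sup (DF_le F) hF.tor]
    exact lt_of h hF Fc g.2 (fun t ht => hg ⟨t, hF.tor ht⟩ ht) t ht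
  exy := by
    obtain ⟨y, hy, hyz⟩ := Fc.exy
    exact ⟨⟨y, hF.tor (Y0_le F hy)⟩, hy, fun hz => hyz (coe_mem_Zf.2 hz)⟩

/-- `Z(F) ≤ T` -/
theorem zf_le (h : Hyp K p D) (hF : MinBad D K F) : Zf F ≤ D.diagonalSubgroup K := fun z hz =>
  H428.OT.mem_tor_of_comm (by have := h.card; omega) h.inList (hF.le (mem_Zf.1 hz).1)
    fun t ht => ((mem_Zf.1 hz).2 t (hF.tor ht)).symm

/-- **(2.2)** -/
theorem Facts.le_GS (h : Hyp K p D) (hD : D = chevF4 ∨ D = chevG2) (hF : MinBad D K F) (Fc : Facts D K F) :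
    F ≤ GS D K (Psi D K F) := by
  have h1 : F ≤ normalizer (GS D K (Psi D K F) : Set (GL D.Idx K)) := by
    refine le_trans (fun x hx => mem_inf.2 ⟨hF.le hx, ?_⟩) (H3.OT.cent_le_norm h.inList (zf_le h hF))
    rw [mem_centralizer_iff]
    intro z hz
    exact ((mem_Zf.1 hz).2 x hx).symm
  by_contra hne
  have C := Fc.a h hD hF
  have hL : (GS D K (Psi D K F)).subgroupOf F ≤ (MF D K F).subgroupOf F := by
    refine uniq_of h hF _ (fun x hx => (le_sup_left : _ ≤ GS D K (Psi D K F)) hx) fun e => hne ?_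
    rwa [subgroupOf_eq_top] at e
  have h2 : F ≤ MF D K F := by
    intro f hf
    have h3 := (Fc.a h hD hF).mem_of_tor (f := ⟨f, hf⟩) fun t ht => hL
      ((mem_normalizer_iff.1 (h1 hf) t).1 ((le_sup_left : _ ≤ GS D K (Psi D K F)) ht))
    exact h3
  exact absurd h2 (not_le_of_gt (hF.MF_lt h))


omit [Fintype K] in
theorem mem_Zf_of (hD : InList D) (hT : D.diagonalSubgroup K ≤ F) (hle : F ≤ GS D K (Psi D K F)) {t : GL D.Idx K}
    (ht : t ∈ D.diagonalSubgroup K) (hc : ∀ a ∈ Psi D K F, H412.OT.chi D K t a = 1) : t ∈ Zf F := by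
  rw [mem_Zf]
  refine ⟨hT ht, fun x hx => ?_⟩
  have h1 : GS D K (Psi D K F) ≤ centralizer {t} := by
    refine sup_le (fun s hs => ?_) (iSup₂_le fun a ha => ?_)
    · rw [mem_centralizer_singleton_iff]
      exact H501.OT.tor_comm hD hs ht
    · intro y hy
      obtain ⟨b, rfl⟩ := (mem_rootSubgroup_iff hD a y).1 hy
      rw [mem_centralizer_singleton_iff]
      have h2 := tor_conj_xG hD ht ha.1 b
      rw [hc a ha, one_mul, mul_inv_eq_iff_eq_mul] at h2
      exact h2.symm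
  exact mem_centralizer_singleton_iff.1 (h1 (hle hx))

end

end Cfsg.Agent.H103.OT
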