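import Cfsg.Agent.H103.OT.Core
import Cfsg.Agent.H186.OT.Iface
import Cfsg.Agent.H274.OT.LTY

/-!
# S2539, part 5: the facts on `D_F` that are needed (targets for helper175, helper428, helper274)

`SubF D K F` : facts common to `S_F = {±s}` and `S_F = ` short `A2` (`h : MinBad D K F`);
`NsA1`, `NsA2` : the conjugacy facts.
-/

set_option autoImplicit false

namespace Cfsg.Agent.H103.OT

open Subgroup Cfsg Cfsg.Lie Cfsg.Agent.H412.OT Cfsg.Agent.H186.OT Cfsg.Agent.H274.OT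
open scoped commutatorElement

universe u

variable (D : ChevalleyDatum) (K : Type u) [Field K]

/-- Facts on `D_F`, `T`, `M_F` (`F` least bad, `S_F = {±s}` or a short `A2`). -/
structure SubF (F : Subgroup (GL D.Idx K)) : Prop where
  /-- `D_F` is perfect -/
  perf : ⁅DF D K F, DF D K F⁆ = DF D K F
  /-- `D_F` is quasisimple -/
  qs : ∀ N : Subgroup (GL D.Idx K), N ≤ DF D K F → (∀ d ∈ DF D K F, ∀ n ∈ N, d * n * d⁻¹ ∈ N) →
    DF D K F ≤ N ∨ ∀ n ∈ N, ∀ d ∈ DF D K F, n * d = d * n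
  /-- P2 / Q2 -/
  norm : ∀ x ∈ MF D K F, x ^ 2 ∈ Zf F → ∃ d ∈ DF D K F,
    d * x * d⁻¹ ∈ normalizer (D.diagonalSubgroup K : Set (GL D.Idx K))
  /-- elements of `M` centralising `D_F` normalise `T` -/
  cdn : ∀ m ∈ MF D K F, (∀ d ∈ DF D K F, m * d = d * m) →
    m ∈ normalizer (D.diagonalSubgroup K : Set (GL D.Idx K))
  /-- `N_F(D_F) ≤ M` (Frattini with the `T`-invariant Sylow `p`-subgroup of `D_F` and `MinBad.loc`) -/
  normD : ∀ g ∈ F, (∀ d ∈ DF D K F, g * d * g⁻¹ ∈ DF D K F) → g ∈ MF D K F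
  /-- `C_G(C_T(D_F)) = D_F T` (helper274) -/
  cY : centralizer (Y0 D K F : Set (GL D.Idx K)) ⊓ D.group K ≤ DF D K F ⊔ D.diagonalSubgroup K

/-- P1 (`S_F = {±s}`) -/
def NsA1 (F : Subgroup (GL D.Idx K)) : Prop :=
  ∀ (q : ℕ), Nat.card K = q → ∀ x ∈ DF D K F ⊔ D.diagonalSubgroup K, x ^ (q - 1) = 1 →
    (∃ d ∈ DF D K F, d * x * d⁻¹ ∈ D.diagonalSubgroup K) ∨
      (x ^ 2 ∈ D.diagonalSubgroup K ∧ ∀ d ∈ DF D K F, x ^ 2 * d = d * x ^ 2)

/-- Q1 (`S_F = ` short `A2`): `x` of order two, or of order two modulo `Z(F)` -/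
def NsA2 (F : Subgroup (GL D.Idx K)) : Prop :=
  ∀ x ∈ DF D K F ⊔ D.diagonalSubgroup K, x ^ 2 = 1 → ∃ d ∈ DF D K F, d * x * d⁻¹ ∈ D.diagonalSubgroup K

end Cfsg.Agent.H103.OT
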