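import Cfsg.Agent.H103.OT.Inst
import Cfsg.Agent.H103.OT.SubF
import Cfsg.Agent.H501.OT.Faith

/-!
# S2539, part 5: the concrete instance, second level (helper103)

* `SubF.facts` : `Facts` from `SubF`;
* `FactsB` : the facts for the second level; `FactsB.b : P5b F _`;
* `FactsB.nc : Nc`.
-/

set_option autoImplicit false

namespace Cfsg.Agent.H103.OT

open Subgroup Cfsg Cfsg.Lie Cfsg.Agent.H412.OT Cfsg.Agent.H186.OT Cfsg.Agent.H274.OT
open Cfsg.Agent.ChevalleyStructure Cfsg.Agent.ChevalleyStructure.Elts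
open scoped commutatorElement

universe u

variable {D : ChevalleyDatum} {K : Type u} [Field K] {F : Subgroup (GL D.Idx K)}

section

variable [Fintype K] {p : ℕ}

theorem SubF.facts (h : Hyp K p D) (hF : MinBad D K F) (S : SubF D K F) : Facts D K F where
  perf := S.perf
  cYF := (inf_le_inf_left _ hF.le).trans S.cY
  normD := S.normD
  exy := by
    by_contra hne
    push Not at hne
    have h1 : F ≤ DF D K F ⊔ D.diagonalSubgroup K := by
      refine le_trans (fun x hx => mem_inf.2 ⟨?_, hF.le hx⟩) S.cY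
      rw [mem_centralizer_iff]
      intro y hy
      exact ((mem_Zf.1 (hne y hy)).2 x hx).symm
    have h2 : F ≤ MF D K F := h1.trans (sup_le (DF_le_MF F) (tor_le_MF hF.tor))
    exact absurd h2 (not_le_of_gt (hF.MF_lt h))

/-- Facts for the second level. -/
structure FactsB (D : ChevalleyDatum) (K : Type u) [Field K] (hD : InList D) (F : Subgroup (GL D.Idx K)) (γ : Kˣ)
    (R : ℕ → Prop) : Prop where
  lt : ∀ r, R r → r < D.nroots
  exr : ∃ r, R r ∧ hG hD r (γ : K) ∈ Y0 D K F ∧ (hG hD r (γ : K)) ^ 2 ∉ Zf F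
  ns : (∀ t ∈ D.diagonalSubgroup K, ∀ f ∈ F, f * t * f⁻¹ ∈ D.diagonalSubgroup K → t ∉ Zf F → f ∈ MF D K F) →
    ∀ g ∈ F, g ∉ MF D K F → ∀ r, R r → g * hG hD r (γ : K) * g⁻¹ ∈ MF D K F → (hG hD r (γ : K)) ^ 2 ∈ Zf F
  geo : ∀ x ∈ F, x ∈ normalizer (D.diagonalSubgroup K : Set (GL D.Idx K)) → x ^ 2 ∈ Zf F →
    (∀ t ∈ D.diagonalSubgroup K, x * t * x⁻¹ * t ∈ Zf F) ∨
      ∃ r, R r ∧ x * hG hD r (γ : K) = hG hD r (γ : K) * x ∧ (hG hD r (γ : K)) ^ 2 ∉ Zf F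
  om : ∃ t₁ ∈ D.diagonalSubgroup K, ∃ t₂ ∈ D.diagonalSubgroup K, t₁ ^ 2 ∈ Zf F ∧ t₂ ^ 2 ∈ Zf F ∧
    t₁ ∉ Zf F ∧ t₂ ∉ Zf F ∧ t₁ * t₂ ∉ Zf F

/-- a subgroup element normalises the torus -/
theorem mem_norm_of {x : GL D.Idx K} (h : ∀ t ∈ D.diagonalSubgroup K, x * t * x⁻¹ ∈ D.diagonalSubgroup K) :
    x ∈ normalizer (D.diagonalSubgroup K : Set (GL D.Idx K)) := by
  have : Finite (GL D.Idx K) := inferInstance
  have h3 : (D.diagonalSubgroup K).map (MulAut.conj x).toMonoidHom = D.diagonalSubgroup K := by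
    apply Subgroup.eq_of_le_of_card_ge
    · rintro _ ⟨t, ht, rfl⟩
      exact h t ht
    · rw [Subgroup.card_map_of_injective (MulAut.conj x).injective]
  rw [mem_normalizer_iff]
  intro t
  refine ⟨h t, fun ht => ?_⟩
  have h4 : x * t * x⁻¹ ∈ (D.diagonalSubgroup K).map (MulAut.conj x).toMonoidHom := by rw [h3]; exact ht
  obtain ⟨s, hs, hst⟩ := h4
  have h5 : x * s * x⁻¹ = x * t * x⁻¹ := hst
  have h6 : s = t := by simpa using h5
  rw [← h6]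
  exact hs

omit [Fintype K] in
theorem coe_not {z : F} : z ∉ center F ↔ (z : GL D.Idx K) ∉ Zf F := not_congr coe_mem_Zf.symm

/-- **The second level of the configuration.** -/
noncomputable def FactsB.b (h : Hyp K p D) (hD : D = chevF4 ∨ D = chevG2) (hF : MinBad D K F) (S : SubF D K F)
    {γ : Kˣ} {R : ℕ → Prop} (B : FactsB D K h.inList F γ R) : P5b ↥F {r : ℕ // R r} where
  toP5a := (S.facts h hF).a h hD hF
  h r := ⟨hG h.inList r (γ : K), hF.tor (hG_mem h.inList (B.lt r r.2) γ.ne_zero)⟩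
  exr := by
    obtain ⟨r, hr, h1, h2⟩ := B.exr
    exact ⟨⟨r, hr⟩, h1, coe_not.2 h2⟩
  ns g hg r hti hgr := by
    have h1 := B.ns (fun t ht f hf hft hz => hti ⟨t, hF.tor ht⟩ ht ⟨f, hf⟩ hft (coe_not.2 hz)) g g.2 hg r r.2 hgr
    exact coe_mem_Zf.1 h1
  norm x hx hx2 := by
    obtain ⟨d, hd, h1⟩ := S.norm x hx (coe_mem_Zf.2 hx2)
    exact ⟨⟨d, DF_le F hd⟩, hd, fun t ht => (mem_normalizer_iff.1 h1 t).1 ht⟩
  geo x hx hx2 := by
    have h1 : (x : GL D.Idx K) ∈ normalizer (D.diagonalSubgroup K : Set (GL D.Idx K)) :=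
      mem_norm_of fun t ht => hx ⟨t, hF.tor ht⟩ ht
    rcases B.geo x x.2 h1 (coe_mem_Zf.2 hx2) with h2 | ⟨r, hr, h2, h3⟩
    · exact Or.inl fun t ht => coe_mem_Zf.1 (h2 t ht)
    · exact Or.inr ⟨⟨r, hr⟩, Subtype.ext h2, coe_not.2 h3⟩
  om := by
    obtain ⟨t₁, h1, t₂, h2, h3, h4, h5, h6, h7⟩ := B.om
    exact ⟨⟨t₁, hF.tor h1⟩, h1, ⟨t₂, hF.tor h2⟩, h2, coe_mem_Zf.1 h3, coe_mem_Zf.1 h4, coe_not.2 h5, coe_not.2 h6,
      coe_not.2 h7⟩

/-- **`Nc`.** -/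
theorem FactsB.nc (h : Hyp K p D) (hD : D = chevF4 ∨ D = chevG2) (hF : MinBad D K F) (S : SubF D K F)
    {γ : Kˣ} {R : ℕ → Prop} (B : FactsB D K h.inList F γ R) : (B.b h hD hF S).Nc where
  qs N hN hinv := by
    have h1 := S.qs (N.map F.subtype) (by
      rintro _ ⟨x, hx, rfl⟩
      exact hN hx) (by
      rintro d hd _ ⟨x, hx, rfl⟩
      exact ⟨_, hinv ⟨d, DF_le F hd⟩ hd x hx, rfl⟩)
    rcases h1 with h1 | h1
    · left
      intro d hd
      obtain ⟨x, hx, hxd⟩ := h1 hd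
      rwa [← Subtype.ext hxd]
    · right
      intro n hn d hd
      exact Subtype.ext (h1 n ⟨n, hn, rfl⟩ d hd)
  perf := by
    apply Subgroup.map_injective (f := F.subtype) F.subtype_injective
    rw [map_commutator]
    have h1 : ((DF D K F).subgroupOf F).map F.subtype = DF D K F := by
      rw [subgroupOf_map_subtype]
      exact inf_eq_left.2 (DF_le F)
    show ⁅((DF D K F).subgroupOf F).map F.subtype, ((DF D K F).subgroupOf F).map F.subtype⁆ =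
      ((DF D K F).subgroupOf F).map F.subtype
    rw [h1]
    exact S.perf
  cdn m hm hmd t ht := by
    have h1 := S.cdn m hm fun d hd => congrArg Subtype.val (hmd ⟨d, DF_le F hd⟩ hd)
    exact (mem_normalizer_iff.1 h1 t).1 ht
  faith n hn hnt := H501.OT.faith h hF ((S.facts h hF).le_GS h hD hF) n.2
    fun t ht => coe_mem_Zf.2 (hnt ⟨t, hF.tor ht⟩ ht)

/-- **End I** -/
theorem FactsB.end_gold (h : Hyp K p D) (hD : D = chevF4 ∨ D = chevG2) (hF : MinBad D K F) (S : SubF D K F)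
    {γ : Kˣ} {R : ℕ → Prop} (B : FactsB D K h.inList F γ R) (hgold : Gold.{u})
    (hY : ∃ y ∈ Y0 D K F, y ^ 2 ∈ Zf F ∧ y ∉ Zf F) {v : GL D.Idx K} (hv : v ∈ DF D K F) (hv2 : v ^ 2 ∈ Zf F)
    (hvT : v ∉ D.diagonalSubgroup K) : False := by
  obtain ⟨y, hy, hy2, hyz⟩ := hY
  exact (B.b h hD hF S).false_gold hgold (B.nc h hD hF S)
    ⟨⟨y, hF.tor (Y0_le F hy)⟩, hy, coe_mem_Zf.1 hy2, coe_not.2 hyz⟩ ⟨v, DF_le F hv⟩ hv (coe_mem_Zf.1 hv2) hvT

/-- **End II** -/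
theorem FactsB.end_zstar (h : Hyp K p D) (hD : D = chevF4 ∨ D = chevG2) (hF : MinBad D K F) (S : SubF D K F)
    {γ : Kˣ} {R : ℕ → Prop} (B : FactsB D K h.inList F γ R) {z : GL D.Idx K} (hz : z ∈ DF D K F)
    (hzY : z ∈ Y0 D K F) (hz2 : z ^ 2 ∈ Zf F) (hz1 : z ∉ Zf F) (hzM : ∀ m ∈ MF D K F, m * z * m⁻¹ = z) : False :=
  (B.b h hD hF S).false_zstar (B.nc h hD hF S) ⟨z, DF_le F hz⟩ hz hzY (coe_mem_Zf.1 hz2) (coe_not.2 hz1)
    fun m hm => Subtype.ext (hzM m hm)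

end

end Cfsg.Agent.H103.OT
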