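import Cfsg.Agent.H103.OT.InstB
import Cfsg.Agent.H876.OT.NsPm
import Cfsg.Agent.H501.OT.OmExr
import Cfsg.Agent.H65.OT.Geo
import Cfsg.Agent.H194.OT.NN
import Cfsg.Agent.H298.OT.Y0
import Cfsg.Agent.H274.OT.Ends
import Cfsg.Agent.H175.OT.SubA

/-!
# S2539, part 5: `S_F = {±s}` (helper103)

`short_pm` : there is no least bad group with `S_F = {s, -s}`, `s` short (`F₄`, `G₂`).
-/

set_option autoImplicit false

namespace Cfsg.Agent.H103.OT

open Subgroup Cfsg Cfsg.Lie Cfsg.Agent.H412.OT Cfsg.Agent.H186.OT Cfsg.Agent.H274.OT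
open Cfsg.Agent.ChevalleyStructure Cfsg.Agent.ChevalleyStructure.Elts

universe u

variable {D : ChevalleyDatum} {K : Type u} [Field K] [Fintype K] {p : ℕ} [Fact p.Prime] [CharP K p]

/-- a generator of the multiplicative group -/
theorem exists_gen (K : Type u) [Field K] [Fintype K] : ∃ γ : Kˣ, orderOf γ = Fintype.card K - 1 := by
  obtain ⟨g, hg⟩ := IsCyclic.exists_generator (α := Kˣ)
  exact ⟨g, H501.OT.orderOf_gen hg⟩

/-- **`S_F = {±s}`** -/
theorem short_pm (hgold : Gold.{u}) (h : Hyp K p D) (hD : D = chevF4 ∨ D = chevG2) (F : Subgroup (GL D.Idx K))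
    (hF : MinBad D K F) (s : ℕ) (hs : s < D.nroots) (hsh : ¬ IsLong D s) (hS : SF D K F = {s, D.neg s}) : False := by
  have S : SubF D K F := H175.OT.subA1 h hD hF hs hS
  have Fc := S.facts h hF
  have hle := Fc.le_GS h hD hF
  have hZ := zf_le h hF
  obtain ⟨γ, hγ⟩ := exists_gen K
  -- `D_F` is not normal
  obtain ⟨a, ha, h1, h2, h3⟩ := H194.OT.nn h.inList hZ hle hs hS (by
    intro hn
    have h4 : F ≤ MF D K F := fun g hg => S.normD g hg (hn g hg)
    exact absurd h4 (not_le_of_gt (hF.MF_lt h)))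
  have hsΨ : s ∈ Psi D K F := H194.OT.SF_sub_Psi h.inList hZ (by rw [hS]; simp)
  have B : FactsB D K h.inList F γ (fun r => r < D.nroots ∧ (IsLong D r ∨ r = s ∨ D = chevF4)) := {
    lt := fun r hr => hr.1
    exr := by
      obtain ⟨r, hr, h4, h5, h6⟩ := H501.OT.exr_pair h hD hs hS hsh ha h1 h2 hγ
      refine ⟨r, ⟨hr, ?_⟩, h5, h6⟩
      rcases hD with hD | hD
      · exact Or.inr (Or.inr hD)
      · exact Or.inl (h4 hD)
    ns := fun hti g hg hgM r hr hx => H876.OT.Ns.ns_pm h hD hF Fc.cYF hS (H175.OT.nsA1 h hD hs hS) hti hγ hg hgM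
      hr.1 hr.2 hx
    geo := by
      intro x hx hxN hx2
      rcases hD with rfl | rfl
      · rcases H65.OT.geo_F4 h.card hF.tor hF.le (fun t ht hc => mem_Zf_of h.inList hF.tor hle ht hc) h.inList hγ hx hxN
          hx2 hZ with h4 | ⟨r, hr, h4, h5⟩
        · exact Or.inl h4
        · exact Or.inr ⟨r, ⟨hr, Or.inr (Or.inr rfl)⟩, h4, h5⟩
      · rcases H65.OT.geo_G2 h.card hF.tor hF.le (fun t ht hc => mem_Zf_of h.inList hF.tor hle ht hc) h.inList hγ hx hxN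
          hx2 hZ hS hsh ⟨a, ha, h1, h2, h3⟩ with h4 | ⟨r, hr, h6, h4, h5⟩
        · exact Or.inl h4
        · refine Or.inr ⟨r, ⟨hr, ?_⟩, h4, h5⟩
          rcases h6 with h6 | h6
          · exact Or.inl h6
          · exact Or.inr (Or.inl h6)
    om := H501.OT.om h hD hsΨ ha hsh h1 h2 h3 }
  obtain ⟨n, hn, z, hzY, hzD, hnz, hnT, hz2, hz1, hzM⟩ := ends_pm h hD hF hs hS
  by_cases hzZ : z ∈ Zf F
  · obtain ⟨y, hy, -, hy2, hy3⟩ := H298.OT.hY_pm h hD hs hsh ha h1 h2 h3 hS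
    exact B.end_gold h hD hF S hgold ⟨y, hy, hy2, hy3⟩ hn (hnz ▸ hzZ) hnT
  · exact B.end_zstar h hD hF S hzD hzY (hz2 ▸ one_mem _) hzZ hzM

end Cfsg.Agent.H103.OT
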